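import Groth.Prelude.Def_SekSuwa2
import Mathlib.RingTheory.DiscreteValuationRing.Basic
import Mathlib.FieldTheory.Perfect
import Mathlib.RingTheory.LocalRing.ResidueField.Basic
import Mathlib.RingTheory.Flat.Basic
import Mathlib.RingTheory.Nilpotent.Defs
import Mathlib.Algebra.CharP.Lemmas

/-!
# Powers congruent modulo a power of the parameter
-/

set_option autoImplicit false

universe u

namespace GrothLib.SekG13

variable {R : Type u} [CommRing R] {lam : R} {N : ℕ}

/-- The coefficientwise form of the divisibility condition. -/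
theorem dvd_choose_mul (h : SekSuwa.DivCond lam N) (i : ℕ) (hi : 0 < i) : lam ^ N ∣ (N.choose i : R) * lam ^ i := by
  refine ⟨(SekSuwa.psiPoly lam N h).coeff i, ?_⟩
  have := congrArg (fun q : Polynomial R => q.coeff i) (SekSuwa.psiPoly_spec h)
  simp only [Polynomial.coeff_C_mul, Polynomial.coeff_sub, Polynomial.coeff_one, if_neg hi.ne', sub_zero] at this
  rw [this, show (1 + Polynomial.C lam * Polynomial.X : Polynomial R) ^ N =
    ((1 + Polynomial.X) ^ N).comp (Polynomial.C lam * Polynomial.X) by simp, Polynomial.comp_C_mul_X_coeff,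
    Polynomial.coeff_one_add_X_pow]

theorem dvd_choose [IsDomain R] (h : SekSuwa.DivCond lam N) (hlam : lam ≠ 0) (i : ℕ) (hi : 0 < i) (hiN : i ≤ N) :
    lam ^ (N - i) ∣ (N.choose i : R) := by
  refine (mul_dvd_mul_iff_right (pow_ne_zero i hlam)).1 ?_
  rw [← pow_add, Nat.sub_add_cancel hiN]
  exact dvd_choose_mul h i hi

variable {A : Type u} [CommRing A] [Algebra R A]

/-- The power of a sum is the sum of the powers up to a multiple of the cofactor. -/
theorem pow_add_sub_mem [IsDomain R] (h : SekSuwa.DivCond lam N) (hlam : lam ≠ 0) (hN : 0 < N) {x μ : R}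
    (hl : lam = x * μ) (c a : A) :
    ∃ z : A, (c + algebraMap R A x * a) ^ N = c ^ N + algebraMap R A x ^ N * a ^ N + algebraMap R A (x ^ N * μ) * z := by
  rw [add_comm c, add_pow, Finset.sum_range_succ, Nat.choose_self, Nat.cast_one, mul_one, Nat.sub_self, pow_zero,
    mul_one, ← Finset.sum_erase_add _ _ (Finset.mem_range.2 hN : 0 ∈ Finset.range N)]
  have hd : ∀ i ∈ (Finset.range N).erase 0, algebraMap R A (x ^ N * μ) ∣
      (algebraMap R A x * a) ^ i * c ^ (N - i) * (N.choose i : A) := by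
    intro i hi
    rw [Finset.mem_erase, Finset.mem_range] at hi
    obtain ⟨e, he⟩ := dvd_choose h hlam i (Nat.pos_of_ne_zero hi.1) hi.2.le
    obtain ⟨k, hk⟩ : ∃ k, N - i = k + 1 := ⟨N - i - 1, by omega⟩
    have hx : x ^ i * (N.choose i : R) = x ^ N * μ * (μ ^ k * e) := by
      rw [he, hl, hk, mul_pow, show N = i + (k + 1) by omega]; ring
    refine ⟨algebraMap R A (μ ^ k * e) * a ^ i * c ^ (N - i), ?_⟩
    have hx' := congrArg (algebraMap R A) hx
    simp only [map_mul, map_pow, map_natCast] at hx'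
    simp only [map_mul, map_pow, mul_pow]
    linear_combination (a ^ i * c ^ (N - i)) * hx'
  obtain ⟨z, hz⟩ := Finset.dvd_sum hd
  refine ⟨z, ?_⟩
  rw [hz, mul_pow]
  simp
  ring

theorem exists_pow_add_mul [IsDomain R] (h : SekSuwa.DivCond lam N) (hlam : lam ≠ 0) (hN : 0 < N) (c a : A) :
    ∃ z : A, (c + algebraMap R A lam * a) ^ N = c ^ N + algebraMap R A (lam ^ N) * z := by
  obtain ⟨z, hz⟩ := pow_add_sub_mem h hlam hN (mul_one lam).symm c a
  exact ⟨a ^ N + z, by rw [hz, mul_one, map_pow]; ring⟩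

variable [IsDomain R] [IsDiscreteValuationRing R] [Module.Flat R A]

omit [IsDiscreteValuationRing R] in
theorem cancel_algebraMap {r : R} (hr : r ≠ 0) {a b : A} (e : algebraMap R A r * a = algebraMap R A r * b) : a = b :=
  IsSMulRegular.of_flat (S := A) (IsSMulRegular.of_ne_zero hr)
    (show algebraMap R A r • a = algebraMap R A r • b from e)

/-- Powers congruent modulo the power of the parameter come from congruent elements. -/
theorem sub_mem_of_pow (h : SekSuwa.DivCond lam N) (hlam : lam ≠ 0) (hN : 0 < N) {π : R} (hπ : Irreducible π)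
    (hred : ∀ a : A, algebraMap R A π ∣ a ^ N → algebraMap R A π ∣ a) {w c : A}
    (hw : algebraMap R A (lam ^ N) ∣ w ^ N - c ^ N) : algebraMap R A lam ∣ w - c := by
  obtain ⟨m, ε, hε⟩ := IsDiscreteValuationRing.eq_unit_mul_pow_irreducible hlam hπ
  suffices ∀ s ≤ m, algebraMap R A (π ^ s) ∣ w - c by
    rw [hε, map_mul]
    exact (IsUnit.mul_left_dvd (ε.isUnit.map _)).2 (this m le_rfl)
  intro s
  induction s with
  | zero => intro _; simp
  | succ s ih =>
    intro hs
    obtain ⟨a, ha⟩ := ih (by omega)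
    obtain ⟨j, hj⟩ : ∃ j, m = s + (j + 1) := ⟨m - s - 1, by omega⟩
    have hl : lam = π ^ s * (π * (ε * π ^ j)) := by rw [hε, hj]; ring
    obtain ⟨z, hz⟩ := pow_add_sub_mem h hlam hN hl c a
    obtain ⟨v, hv⟩ := hw
    rw [← ha, add_sub_cancel, eq_add_of_sub_eq' hv] at hz
    have e : algebraMap R A ((π ^ s) ^ N) * a ^ N = algebraMap R A ((π ^ s) ^ N) *
        (algebraMap R A π * (algebraMap R A (π ^ (N - 1) * (ε * π ^ j) ^ N) * v - algebraMap R A (ε * π ^ j) * z)) := by
      have hN' : lam ^ N = (π ^ s) ^ N * π * (π ^ (N - 1) * (ε * π ^ j) ^ N) := by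
        rw [hl, mul_pow, mul_pow, show π ^ N = π * π ^ (N - 1) by rw [← pow_succ', Nat.sub_add_cancel hN]]; ring
      rw [hN'] at hz
      simp only [map_mul, map_pow] at hz ⊢
      linear_combination (-1 : A) * hz
    obtain ⟨a', ha'⟩ := hred a ⟨_, cancel_algebraMap (pow_ne_zero N (pow_ne_zero s hπ.ne_zero)) e⟩
    exact ⟨a', by rw [ha, ha', pow_succ, map_mul]; ring⟩

/-- A scalar divisible by a power of the uniformizer in an algebra with a special fibre is divisible in the base. -/
theorem pow_dvd_of_algebraMap {π : R} (hπ : Irreducible π) (hA : ¬IsUnit (algebraMap R A π)) {x : R} (j : ℕ)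
    (hx : algebraMap R A (π ^ j) ∣ algebraMap R A x) : π ^ j ∣ x := by
  by_contra hn
  obtain ⟨i, ε, rfl⟩ := IsDiscreteValuationRing.eq_unit_mul_pow_irreducible
    (show x ≠ 0 from fun h => hn (h ▸ dvd_zero _)) hπ
  have hij : i < j := by
    by_contra h
    exact hn (Dvd.dvd.mul_left (pow_dvd_pow _ (by omega)) _)
  obtain ⟨k, rfl⟩ : ∃ k, j = i + (k + 1) := ⟨j - i - 1, by omega⟩
  obtain ⟨z, hz⟩ := hx
  have e : algebraMap R A (π ^ i) * algebraMap R A (ε : R) =
      algebraMap R A (π ^ i) * (algebraMap R A π * (algebraMap R A (π ^ k) * z)) := by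
    simp only [map_mul, map_pow, pow_add] at hz ⊢
    linear_combination hz
  exact hA (isUnit_of_mul_isUnit_left ((cancel_algebraMap (pow_ne_zero i hπ.ne_zero) e) ▸ ε.isUnit.map (algebraMap R A)))

/-- A scalar congruent to a power in an algebra with reduced special fibre is congruent to a power in the base. -/
theorem exists_root (p : ℕ) [Fact p.Prime] [CharP (IsLocalRing.ResidueField R) p]
    [PerfectField (IsLocalRing.ResidueField R)] {n : ℕ} (h : SekSuwa.DivCond lam (p ^ n)) (hlam : lam ≠ 0) {π : R}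
    (hπ : Irreducible π) (hred : ∀ a : A, algebraMap R A π ∣ a ^ p ^ n → algebraMap R A π ∣ a)
    (hA : ¬IsUnit (algebraMap R A π)) {w : A} {u : R}
    (hw : algebraMap R A (lam ^ p ^ n) ∣ w ^ p ^ n - algebraMap R A u) : ∃ r : R, lam ^ p ^ n ∣ r ^ p ^ n - u := by
  have hN : 0 < p ^ n := pow_pos (Fact.out : p.Prime).pos n
  obtain ⟨m, ε, hε⟩ := IsDiscreteValuationRing.eq_unit_mul_pow_irreducible hlam hπ
  suffices ∀ s ≤ m, ∃ r : R, algebraMap R A (π ^ s) ∣ w - algebraMap R A r by
    obtain ⟨r, hr⟩ := this m le_rfl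
    obtain ⟨a, ha⟩ : algebraMap R A lam ∣ w - algebraMap R A r := by
      rw [hε, map_mul]; exact (IsUnit.mul_left_dvd (ε.isUnit.map _)).2 hr
    obtain ⟨z, hz⟩ := exists_pow_add_mul (A := A) h hlam hN (algebraMap R A r) a
    rw [← ha, add_sub_cancel] at hz
    obtain ⟨v, hv⟩ := hw
    refine ⟨r, ?_⟩
    have h' : algebraMap R A (π ^ (m * p ^ n)) ∣ algebraMap R A (r ^ p ^ n - u) := by
      refine dvd_trans ?_ (⟨v - z, ?_⟩ : algebraMap R A (lam ^ p ^ n) ∣ _)
      · rw [hε, mul_pow, map_mul, ← pow_mul]; exact dvd_mul_left _ _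
      · rw [map_sub, map_pow (algebraMap R A) r, mul_sub, ← hv]; linear_combination (-1 : A) * hz
    have := pow_dvd_of_algebraMap hπ hA _ h'
    rw [hε, mul_pow, ← pow_mul]
    exact (IsUnit.mul_left_dvd (ε.isUnit.pow _)).2 this
  intro s
  induction s with
  | zero => intro _; exact ⟨0, by simp⟩
  | succ s ih =>
    intro hs
    obtain ⟨r, a, ha⟩ := ih (by omega)
    obtain ⟨j, hj⟩ : ∃ j, m = s + (j + 1) := ⟨m - s - 1, by omega⟩
    have hl : lam = π ^ s * (π * (ε * π ^ j)) := by rw [hε, hj]; ring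
    obtain ⟨z, hz⟩ := pow_add_sub_mem (A := A) h hlam hN hl (algebraMap R A r) a
    rw [← ha, add_sub_cancel] at hz
    obtain ⟨v, hv⟩ := hw
    have hN' : lam ^ p ^ n = (π ^ s) ^ p ^ n * π * (π ^ (p ^ n - 1) * (ε * π ^ j) ^ p ^ n) := by
      rw [hl, mul_pow, mul_pow, show π ^ p ^ n = π * π ^ (p ^ n - 1) by rw [← pow_succ', Nat.sub_add_cancel hN]]; ring
    obtain ⟨e, he⟩ : π ^ (s * p ^ n) ∣ u - r ^ p ^ n := by
      refine pow_dvd_of_algebraMap hπ hA _ ⟨a ^ p ^ n + algebraMap R A π *
        (algebraMap R A (ε * π ^ j) * z - algebraMap R A (π ^ (p ^ n - 1) * (ε * π ^ j) ^ p ^ n) * v), ?_⟩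
      rw [hN'] at hv
      simp only [map_sub, map_mul, map_pow, pow_mul] at hv hz ⊢
      linear_combination hz - hv
    -- the residue of the error is a power
    let k := IsLocalRing.ResidueField R
    haveI : ExpChar k p := ExpChar.prime (Fact.out : p.Prime)
    haveI : PerfectRing k p := PerfectField.toPerfectRing p
    obtain ⟨c₁, hc₁⟩ := (bijective_iterateFrobenius (R := k) (p := p) (n := n)).2 (IsLocalRing.residue R e)
    obtain ⟨c, rfl⟩ := IsLocalRing.residue_surjective c₁
    have hce : π ∣ c ^ p ^ n - e := by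
      rw [← Ideal.mem_span_singleton, ← hπ.maximalIdeal_eq, ← IsLocalRing.residue_eq_zero_iff, map_sub, map_pow,
        sub_eq_zero]
      rw [← hc₁, iterateFrobenius_def]
    -- work modulo the uniformizer
    let q := Ideal.Quotient.mk (Ideal.span {algebraMap R A π})
    haveI : Nontrivial (A ⧸ Ideal.span {algebraMap R A π}) := Ideal.Quotient.nontrivial_iff.2
      (by rw [ne_eq, Ideal.span_singleton_eq_top]; exact hA)
    have hqπ : q (algebraMap R A π) = 0 := Ideal.Quotient.eq_zero_iff_mem.2 (Ideal.mem_span_singleton_self _)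
    let g : k →+* A ⧸ Ideal.span {algebraMap R A π} := Ideal.Quotient.lift _ (q.comp (algebraMap R A)) fun y hy => by
      rw [hπ.maximalIdeal_eq, Ideal.mem_span_singleton'] at hy
      obtain ⟨y', rfl⟩ := hy
      rw [RingHom.comp_apply, map_mul, map_mul, hqπ, mul_zero]
    haveI : CharP (A ⧸ Ideal.span {algebraMap R A π}) p := charP_of_injective_ringHom g.injective p
    have e1 : algebraMap R A ((π ^ s) ^ p ^ n) * a ^ p ^ n = algebraMap R A ((π ^ s) ^ p ^ n) *
        (algebraMap R A e + algebraMap R A π *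
        (algebraMap R A (π ^ (p ^ n - 1) * (ε * π ^ j) ^ p ^ n) * v - algebraMap R A (ε * π ^ j) * z)) := by
      have he' := congrArg (algebraMap R A) he
      rw [hN'] at hv
      simp only [map_sub, map_mul, map_pow, pow_mul] at hv hz he' ⊢
      linear_combination hv - hz + he'
    have e2 := congrArg q (cancel_algebraMap (pow_ne_zero _ (pow_ne_zero s hπ.ne_zero)) e1)
    obtain ⟨e', he''⟩ := hce
    have e3 : q ((a - algebraMap R A c) ^ p ^ n) = 0 := by
      rw [map_pow, map_sub, sub_pow_char_pow, ← map_pow q a, e2, ← map_pow, ← map_pow, map_add, map_mul q, hqπ,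
        zero_mul, add_zero, ← map_sub, ← map_sub, ← neg_sub, he'', map_neg, map_mul, map_neg, map_mul, hqπ, zero_mul,
        neg_zero]
    obtain ⟨a', ha'⟩ := hred _ (Ideal.mem_span_singleton.1 (Ideal.Quotient.eq_zero_iff_mem.1 e3))
    refine ⟨r + π ^ s * c, a', ?_⟩
    rw [map_add, map_mul, pow_succ, map_mul]
    linear_combination ha + algebraMap R A (π ^ s) * ha'

end GrothLib.SekG13
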