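import Groth.Agent.Lib.SekG13.Local
import Groth.Agent.Lib.SekG13.Ring
import Groth.Agent.S14694

/-!
# Torsors under the congruence groups with a character to the multiplicative group
-/

set_option autoImplicit false
set_option backward.isDefEq.respectTransparency false
set_option backward.isDefEq.respectTransparency.types false

universe u

open CategoryTheory CategoryTheory.Limits AlgebraicGeometry MonoidalCategory CartesianMonoidalCategory MonObj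

namespace GrothLib.SekG13

open NoriFGS13 SekGen13

noncomputable local instance grpGm {R : Type u} [CommRing R] {X : Scheme.{u}} (f : X ⟶ Spec (CommRingCat.of R)) :
    GrpObj (Red.bc f (Red.diag R ℤ)) := Red.grpObj_bc f _

variable {R : Type u} [CommRing R] {lam : R} {N : ℕ} {h : SekSuwa.DivCond lam N}

section Base

variable {T : Over (Spec (CommRingCat.of R))}

theorem incl_injective {w w' : T ⟶ SekSuwa.GK R lam N h}
    (e : w ≫ SekSuwa.incl R lam N h = w' ≫ SekSuwa.incl R lam N h) : w = w' := by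
  refine ptRing_injective ((RingHom.cancel_right Ideal.Quotient.mk_surjective).1 ?_)
  have e' := congrArg ptRing e
  rw [SekSuwa.incl, ptRing_specHom, ptRing_specHom] at e'
  exact e'

/-- A root of the polynomial defines a point of the congruence group. -/
theorem exists_kc (hN : 0 < N) {b : Γ(T.left, ⊤)}
    (hb : (SekSuwa.psiPoly lam N h).eval₂ (strR T) b = 0) :
    ∃ w : T ⟶ SekSuwa.GK R lam N h, coord (w ≫ SekSuwa.incl R lam N h) = b := by
  letI := algΓ T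
  have hb' : Polynomial.aeval b (SekSuwa.psiPoly lam N h) = 0 := hb
  have h1 : (1 + lam • b) ^ N = 1 := by
    have := SekSuwa.aeval_psiPoly h b
    rw [hb', mul_zero] at this
    rw [Algebra.smul_def]
    exact sub_eq_zero.1 this.symm
  have hc : (1 + lam • b) * (1 + lam • b) ^ (N - 1) = 1 := by rw [← pow_succ', Nat.sub_add_cancel hN, h1]
  let φ₀ : SekSuwa.A R lam →ₐ[R] Γ(T.left, ⊤) := SekSuwa.A.lift R lam b _ hc
  let φ : SekSuwa.AK R lam N h →+* Γ(T.left, ⊤) :=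
    Ideal.Quotient.lift (SekSuwa.kerIdeal lam N h) φ₀.toRingHom fun z hz => by
      obtain ⟨c, rfl⟩ := Ideal.mem_span_singleton'.1 hz
      rw [map_mul, show φ₀.toRingHom (SekSuwa.kerGen lam N h) = 0 from ?_, MulZeroClass.mul_zero]
      show φ₀ (Polynomial.aeval SekSuwa.A.t (SekSuwa.psiPoly lam N h)) = 0
      rw [← Polynomial.aeval_algHom_apply, SekSuwa.A.lift_t]
      exact hb'
  obtain ⟨w, hw⟩ := exists_ptRing (B := SekSuwa.AK R lam N h) (T := T) φ (RingHom.ext fun r => φ₀.commutes r)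
  refine ⟨w, ?_⟩
  rw [coord, SekSuwa.incl, ptRing_specHom, hw]
  exact SekSuwa.A.lift_t b _ hc

end Base

variable {X : Scheme.{u}} {f : X ⟶ Spec (CommRingCat.of R)}

/-- The homomorphism to the multiplicative group. -/
noncomputable abbrev alK (f : X ⟶ Spec (CommRingCat.of R)) (h : SekSuwa.DivCond lam N) :
    Red.bc f (SekSuwa.GK R lam N h) ⟶ Red.bc f (Red.diag R ℤ) :=
  (Over.pullback f).map (SekSuwa.incl R lam N h ≫ SekSuwa.alpha R lam)

/-- The coordinate of a point of the congruence group over `X`. -/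
noncomputable def ck {T : Over X} (γ : T ⟶ Red.bc f (SekSuwa.GK R lam N h)) : Γ(T.left, ⊤) :=
  coord (toB f γ ≫ SekSuwa.incl R lam N h)

theorem vf_alK {T : Over X} (γ : T ⟶ Red.bc f (SekSuwa.GK R lam N h)) :
    vf (γ ≫ alK f h) = 1 + lamT f lam T * (ck γ : Γ(T.left, ⊤)) := by
  unfold vf alK
  rw [toB_comp, ← Category.assoc, val_alpha]; rfl

theorem alK_eq_one_of_lamT {T : Over X} (hT : lamT f lam T = 0) (γ : T ⟶ Red.bc f (SekSuwa.GK R lam N h)) :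
    γ ≫ alK f h = 1 :=
  vf_injective (by rw [vf_alK, hT, MulZeroClass.zero_mul, add_zero, vf_one])

theorem alK_injective [IsDomain R] (hlam : lam ≠ 0) [Flat f] {T : Over X} [Flat T.hom]
    {γ γ' : T ⟶ Red.bc f (SekSuwa.GK R lam N h)} (e : γ ≫ alK f h = γ' ≫ alK f h) : γ = γ' := by
  apply Over.OverMorphism.ext
  refine Scheme.Cover.hom_ext T.left.affineCover _ _ fun i => ?_
  let T' : Over X := Over.mk (T.left.affineCover.f i ≫ T.hom)
  let c : T' ⟶ T := Over.homMk (T.left.affineCover.f i) rfl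
  haveI : IsAffine T'.left := inferInstanceAs (IsAffine (T.left.affineCover.X i))
  haveI : Flat T'.hom := inferInstanceAs (Flat (T.left.affineCover.f i ≫ T.hom))
  suffices c ≫ γ = c ≫ γ' from congrArg CommaMorphism.left this
  refine toB_injective f (incl_injective (coord_injective
    (isSMulRegular_lamT (f := f) hlam T' (b := ck (c ≫ γ)) (b' := ck (c ≫ γ')) ?_)))
  have h' : vf ((c ≫ γ) ≫ alK f h) = vf ((c ≫ γ') ≫ alK f h) := by rw [Category.assoc, Category.assoc, e]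
  rw [vf_alK, vf_alK] at h'
  exact add_left_cancel h'

theorem exists_alK_eq [IsDomain R] (hlam : lam ≠ 0) (hN : 0 < N) [Flat f] {T : Over X} [IsAffine T.left] [Flat T.hom]
    (δ : T ⟶ Red.bc f (Red.diag R ℤ)) (hδ : vf δ ^ N = 1) (c : Γ(T.left, ⊤)) (hc : vf δ = 1 + lamT f lam T * c) :
    ∃ γ : T ⟶ Red.bc f (SekSuwa.GK R lam N h), γ ≫ alK f h = δ := by
  letI := algΓ ((Over.map f).obj T)
  let q : Γ(T.left, ⊤) := Polynomial.aeval (R := R) (A := Γ(((Over.map f).obj T).left, ⊤)) c (SekSuwa.psiPoly lam N h)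
  have e : lamT f (lam ^ N) T * q = lamT f (lam ^ N) T * 0 := by
    rw [MulZeroClass.mul_zero]
    refine (SekSuwa.aeval_psiPoly (B := Γ(((Over.map f).obj T).left, ⊤)) h c).trans ?_
    show (1 + lamT f lam T * c) ^ N - 1 = 0
    rw [← hc, hδ, sub_self]
  obtain ⟨w, hw⟩ := exists_kc (h := h) hN (T := (Over.map f).obj T) (b := c)
    (isSMulRegular_lamT (f := f) (pow_ne_zero N hlam) T e)
  exact ⟨ofB f w, vf_injective (by rw [vf_alK, ck, toB_ofB, hw, hc])⟩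

variable {P P₂ : Over X} {a : AlgGrp.Action (Red.bc f (SekSuwa.GK R lam N h)) P}
  {a₂ : AlgGrp.Action (Red.bc f (SekSuwa.GK R lam N h)) P₂}
  {χ : P ⟶ Red.bc f (Red.diag R ℤ)} {χ₂ : P₂ ⟶ Red.bc f (Red.diag R ℤ)} {u : R}

theorem eq_of_chi_eq [IsDomain R] (hlam : lam ≠ 0) [Flat f] (ha : NonAbH1.IsPseudoTorsorSch a)
    (hχ : ∀ (T : Over X) (γ : T ⟶ Red.bc f (SekSuwa.GK R lam N h)) (p : T ⟶ P),
      (lift γ p ≫ a.act) ≫ χ = (γ ≫ alK f h) * (p ≫ χ))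
    {T : Over X} [Flat T.hom] {p₁ p₂ : T ⟶ P} (e : p₁ ≫ χ = p₂ ≫ χ) : p₁ = p₂ := by
  obtain ⟨γ, rfl⟩ := TorsorDesc.exists_act_eq ha p₁ p₂
  rw [hχ] at e
  have h' : γ ≫ alK f h = 1 := mul_eq_right.1 e
  have : γ = 1 := alK_injective hlam (h'.trans (MonObj.one_comp (alK f h)).symm)
  rw [this, AlgGrp.Action.lift_one_act]

theorem chi_eq_of_lamT (ha : NonAbH1.IsPseudoTorsorSch a)
    (hχ : ∀ (T : Over X) (γ : T ⟶ Red.bc f (SekSuwa.GK R lam N h)) (p : T ⟶ P),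
      (lift γ p ≫ a.act) ≫ χ = (γ ≫ alK f h) * (p ≫ χ))
    {T : Over X} (hT : lamT f lam T = 0) (p₁ p₂ : T ⟶ P) : p₁ ≫ χ = p₂ ≫ χ := by
  obtain ⟨γ, rfl⟩ := TorsorDesc.exists_act_eq ha p₁ p₂
  rw [hχ, alK_eq_one_of_lamT hT, _root_.one_mul]

theorem flat_GK (hN : 0 < N) : Flat (Red.bc f (SekSuwa.GK R lam N h)).hom := by
  obtain ⟨⟨-, h2, -⟩, -⟩ := Groth.Agent.S14694.result R lam N hN h
  exact MorphismProperty.of_isPullback (P := (@Flat : MorphismProperty Scheme.{u})) (IsPullback.of_hasPullback _ f) h2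

/-- Torsors with characters agreeing where the parameter vanishes are isomorphic. -/
theorem exists_iso_of_chi [IsDomain R] (hlam : lam ≠ 0) (hN : 0 < N) [Flat f]
    (ha : NonAbH1.IsTorsorFor Scheme.fpqcPrecoverage a) (ha₂ : NonAbH1.IsTorsorFor Scheme.fpqcPrecoverage a₂)
    (hχ : ∀ (T : Over X) (γ : T ⟶ Red.bc f (SekSuwa.GK R lam N h)) (p : T ⟶ P),
      (lift γ p ≫ a.act) ≫ χ = (γ ≫ alK f h) * (p ≫ χ))
    (hχ₂ : ∀ (T : Over X) (γ : T ⟶ Red.bc f (SekSuwa.GK R lam N h)) (p : T ⟶ P₂),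
      (lift γ p ≫ a₂.act) ≫ χ₂ = (γ ≫ alK f h) * (p ≫ χ₂))
    (hu : ∀ (T : Over X) (p : T ⟶ P), vf (p ≫ χ) ^ N = lamT f u T)
    (hu₂ : ∀ (T : Over X) (p : T ⟶ P₂), vf (p ≫ χ₂) ^ N = lamT f u T)
    (hq : ∀ (T : Over X) (p : T ⟶ P) (p₂ : T ⟶ P₂), lamT f lam T = 0 → p ≫ χ = p₂ ≫ χ₂) :
    ∃ i : P ≅ P₂, a.act ≫ i.hom = (Red.bc f (SekSuwa.GK R lam N h) ◁ i.hom) ≫ a₂.act := by
  have hsol : ∀ (T : Over X) [IsAffine T.left] [Flat T.hom] (y : T ⟶ P) (p : T ⟶ P₂),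
      ∃ σ : T ⟶ P₂, σ ≫ χ₂ = y ≫ χ := by
    intro T _ _ y p
    let δ := (y ≫ χ) * (p ≫ χ₂)⁻¹
    have hδ : δ * (p ≫ χ₂) = y ≫ χ := inv_mul_cancel_right _ _
    have hv : vf δ * vf (p ≫ χ₂) = vf (y ≫ χ) := (vf_mul δ (p ≫ χ₂)).symm.trans (congrArg vf hδ)
    have hpow : vf δ ^ N = 1 := by
      have hI : IsUnit (vf (p ≫ χ₂)) := isUnit_val _
      refine (hI.pow N).mul_right_cancel ?_
      rw [← mul_pow, hv, hu, hu₂, _root_.one_mul]
    obtain ⟨T₀, h₀, hT₀, -, hker, -⟩ := exists_vanishing f lam T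
    obtain ⟨d, hd⟩ : ∃ d, d * lamT f lam T = vf δ - 1 := Ideal.mem_span_singleton'.1 (hker _ (by
      rw [map_sub, map_one, sub_eq_zero]
      have hI : IsUnit (vf (h₀ ≫ p ≫ χ₂)) := isUnit_val _
      refine hI.mul_right_cancel ?_
      rw [_root_.one_mul, vf_precomp h₀ (p ≫ χ₂), ← map_mul, hv, ← vf_precomp, ← vf_precomp,
        ← Category.assoc, ← Category.assoc h₀ p, hq T₀ _ _ hT₀]))
    obtain ⟨γ, hγ⟩ := exists_alK_eq (h := h) hlam hN δ hpow d (by rw [mul_comm, hd, add_sub_cancel])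
    exact ⟨lift γ p ≫ a₂.act, by rw [hχ₂, hγ, hδ]⟩
  haveI := flat_GK (f := f) (h := h) hN
  haveI := HasRingHomProperty.descendsAlong_flat (P := @Flat) GrothLib.AlgSp.codescendsAlong_flat
  haveI : Flat P.hom := Torsor21.property @Flat ha (flat_GK hN)
  haveI : Flat P₂.hom := Torsor21.property @Flat ha₂ (flat_GK hN)
  haveI : Flat (P₂ ⊗ P).hom := inferInstanceAs (Flat (pullback.fst P₂.hom P.hom ≫ P₂.hom))
  let 𝒰 := (P₂ ⊗ P).left.affineCover
  let U : ∀ i, Over X := fun i => Over.mk (𝒰.f i ≫ (P₂ ⊗ P).hom)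
  let c : ∀ i, U i ⟶ P₂ ⊗ P := fun i => Over.homMk (𝒰.f i) rfl
  have hloc : ∀ i, ∃ σ : U i ⟶ P₂, σ ≫ χ₂ = (c i ≫ snd P₂ P) ≫ χ := fun i => by
    haveI : IsAffine (U i).left := inferInstanceAs (IsAffine ((P₂ ⊗ P).left.affineCover.X i))
    haveI : Flat (U i).hom := inferInstanceAs (Flat (𝒰.f i ≫ (P₂ ⊗ P).hom))
    exact hsol _ (c i ≫ snd P₂ P) (c i ≫ fst P₂ P)
  choose σ hσ using hloc
  have hagree : ∀ i j, pullback.fst (𝒰.f i) (𝒰.f j) ≫ (σ i).left = pullback.snd (𝒰.f i) (𝒰.f j) ≫ (σ j).left := by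
    intro i j
    let W : Over X := Over.mk (pullback.fst (𝒰.f i) (𝒰.f j) ≫ 𝒰.f i ≫ (P₂ ⊗ P).hom)
    let w₁ : W ⟶ U i := Over.homMk (pullback.fst (𝒰.f i) (𝒰.f j)) rfl
    let w₂ : W ⟶ U j := Over.homMk (pullback.snd (𝒰.f i) (𝒰.f j)) (by
      show pullback.snd _ _ ≫ 𝒰.f j ≫ (P₂ ⊗ P).hom = pullback.fst _ _ ≫ 𝒰.f i ≫ (P₂ ⊗ P).hom
      rw [← pullback.condition_assoc])
    haveI : Flat W.hom := inferInstanceAs (Flat (pullback.fst (𝒰.f i) (𝒰.f j) ≫ 𝒰.f i ≫ (P₂ ⊗ P).hom))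
    have hw : w₁ ≫ c i = w₂ ≫ c j := Over.OverMorphism.ext pullback.condition
    refine congrArg CommaMorphism.left (eq_of_chi_eq hlam ha₂.1 hχ₂ (p₁ := w₁ ≫ σ i) (p₂ := w₂ ≫ σ j) ?_)
    rw [Category.assoc, Category.assoc, hσ, hσ, ← Category.assoc, ← Category.assoc, ← Category.assoc, hw,
      Category.assoc w₂]
  let s := 𝒰.glueMorphisms (fun i => (σ i).left) hagree
  have hs : ∀ i, 𝒰.f i ≫ s = (σ i).left := fun i => Scheme.Cover.ι_glueMorphisms 𝒰 _ _ i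
  have hsw : s ≫ P₂.hom = (P₂ ⊗ P).hom := by
    refine Scheme.Cover.hom_ext 𝒰 _ _ fun i => ?_
    rw [← Category.assoc, hs]
    exact Over.w (σ i)
  let σ₀ : P₂ ⊗ P ⟶ P₂ := Over.homMk s hsw
  have hσ₀ : σ₀ ≫ χ₂ = snd P₂ P ≫ χ := by
    apply Over.OverMorphism.ext
    refine Scheme.Cover.hom_ext 𝒰 _ _ fun i => ?_
    show 𝒰.f i ≫ s ≫ χ₂.left = 𝒰.f i ≫ ((snd P₂ P).left ≫ χ.left)
    rw [← Category.assoc, hs]
    exact (congrArg CommaMorphism.left (hσ i)).trans (Category.assoc _ _ _)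
  haveI := NoriFGS13.effectiveEpi_snd ha₂ P
  haveI : Flat (P₂ ⊗ (P₂ ⊗ P)).hom := inferInstanceAs (Flat (pullback.fst P₂.hom (P₂ ⊗ P).hom ≫ P₂.hom))
  have e : lift (fst P₂ (P₂ ⊗ P)) (snd P₂ (P₂ ⊗ P) ≫ snd P₂ P) ≫ σ₀ = snd P₂ (P₂ ⊗ P) ≫ σ₀ :=
    eq_of_chi_eq hlam ha₂.1 hχ₂ (by rw [Category.assoc, Category.assoc, hσ₀, lift_snd_assoc, Category.assoc])
  obtain ⟨τ, hτ, -⟩ := TorsorDesc.existsUnique_desc (snd P₂ P) σ₀ fun T x₁ x₂ hx => by
    have h1 : x₁ = lift (x₁ ≫ fst P₂ P) x₂ ≫ lift (fst P₂ (P₂ ⊗ P)) (snd P₂ (P₂ ⊗ P) ≫ snd P₂ P) := by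
      rw [comp_lift, lift_fst, lift_snd_assoc]
      apply CartesianMonoidalCategory.hom_ext
      · rw [lift_fst]
      · rw [lift_snd, hx]
    have h2 : x₂ = lift (x₁ ≫ fst P₂ P) x₂ ≫ snd P₂ (P₂ ⊗ P) := (lift_snd _ _).symm
    rw [h1, Category.assoc, e, ← Category.assoc, ← h2]
  have hτχ : τ ≫ χ₂ = χ := by
    obtain ⟨_, -, huniq⟩ := TorsorDesc.existsUnique_desc (snd P₂ P) (snd P₂ P ≫ χ) fun T x₁ x₂ hx => by
      rw [← Category.assoc, hx, Category.assoc]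
    exact (huniq _ (show snd P₂ P ≫ τ ≫ χ₂ = snd P₂ P ≫ χ by rw [← Category.assoc, hτ, hσ₀])).trans (huniq χ rfl).symm
  let G := Red.bc f (SekSuwa.GK R lam N h)
  haveI : Flat (G ⊗ P).hom := inferInstanceAs (Flat (pullback.fst G.hom P.hom ≫ G.hom))
  have heq : a.act ≫ τ = (G ◁ τ) ≫ a₂.act := by
    refine eq_of_chi_eq hlam ha₂.1 hχ₂ ?_
    have hact : a.act = lift (fst G P) (snd G P) ≫ a.act := by rw [lift_fst_snd, Category.id_comp]
    have hwl : (G ◁ τ) = lift (fst G P) (snd G P ≫ τ) :=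
      CartesianMonoidalCategory.hom_ext _ _ (by simp) (by simp)
    rw [Category.assoc, hτχ, hact, hχ, hwl, hχ₂, Category.assoc, hτχ]
  haveI : IsIso τ := NoriFGS13.isIso_of_equivariant ha ha₂.1 (𝟙 G) τ (isEquivariant_of_points fun T g x => by
    rw [Category.assoc, heq, Category.comp_id, lift_whiskerLeft_assoc])
  exact ⟨asIso τ, heq⟩

end GrothLib.SekG13
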