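import Groth.Agent.Lib.SekG13.Gm
import Groth.Agent.Lib.SekG13.GK
import Groth.Prelude.Def_SekSuwa2

/-!
# Characters of torsors under roots of unity over a local base
-/

set_option autoImplicit false
set_option backward.isDefEq.respectTransparency false
set_option backward.isDefEq.respectTransparency.types false

universe u

open CategoryTheory CategoryTheory.Limits AlgebraicGeometry MonoidalCategory CartesianMonoidalCategory MonObj

namespace GrothLib.SekG13

open NoriFGS13 SekGen13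

noncomputable local instance grpGm'' {R : Type u} [CommRing R] {X : Scheme.{u}} (f : X ⟶ Spec (CommRingCat.of R)) :
    GrpObj (Red.bc f (Red.diag R ℤ)) := Red.grpObj_bc f _

noncomputable local instance grpGmR' {R : Type u} [CommRing R] : GrpObj (Red.diag R ℤ) := inferInstance

variable (R : Type u) [CommRing R] (N : ℕ)

/-- The inclusion of the roots of unity in the multiplicative group. -/
noncomputable def jN : Red.diag R (ZMod N) ⟶ Red.diag R ℤ :=
  SekSuwa.specHom (MonoidAlgebra.mapDomainBialgHom R (AddMonoidHom.toMultiplicative (Int.castAddHom (ZMod N))))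

instance : IsMonHom (jN R N) := SekSuwa.isMonHom_specHom _

variable {R N}

theorem val_jN {T : Over (Spec (CommRingCat.of R))} (ζ : T ⟶ Red.diag R (ZMod N)) :
    val (ζ ≫ jN R N) = ptRing ζ (MonoidAlgebra.single (Multiplicative.ofAdd (1 : ZMod N)) 1) := by
  rw [val, jN, ptRing_specHom, RingHom.comp_apply]
  congr 1
  show MonoidAlgebra.mapDomainAlgHom R R (AddMonoidHom.toMultiplicative (Int.castAddHom (ZMod N)))
    (MonoidAlgebra.single (Multiplicative.ofAdd (1 : ℤ)) 1) = _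
  simp [MonoidAlgebra.mapDomainAlgHom_apply]

theorem val_jN_pow {T : Over (Spec (CommRingCat.of R))} (ζ : T ⟶ Red.diag R (ZMod N)) :
    val (ζ ≫ jN R N) ^ N = 1 := by
  rw [val_jN, ← map_pow, MonoidAlgebra.single_pow, one_pow, ← ofAdd_nsmul]
  simp
  rw [← MonoidAlgebra.one_def, map_one]

/-- A torsor under roots of unity over a local base has a character whose power is a constant unit. -/
theorem exists_char [IsLocalRing R] [IsNoetherianRing R] {Q' : Over (Spec (CommRingCat.of R))}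
    {b : AlgGrp.Action (Red.diag R (ZMod N)) Q'} (hN : 0 < N)
    (hb : NonAbH1.IsTorsorFor Scheme.fpqcPrecoverage b) :
    ∃ (u : R) (χ : Q' ⟶ Red.diag R ℤ), IsUnit u ∧
      (∀ (T : Over (Spec (CommRingCat.of R))) (ζ : T ⟶ Red.diag R (ZMod N)) (p : T ⟶ Q'),
        (lift ζ p ≫ b.act) ≫ χ = (ζ ≫ jN R N) * (p ≫ χ)) ∧
      ∀ (T : Over (Spec (CommRingCat.of R))) (p : T ⟶ Q'), val (p ≫ χ) ^ N = strR T u := by
  haveI : NeZero N := ⟨hN.ne'⟩
  let S := Spec (CommRingCat.of R)
  let o := 𝟙 S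
  let e : ∀ T : Over S, (Over.map o).obj T ≅ T := fun T =>
    Over.isoMk (Iso.refl _) (by show 𝟙 _ ≫ T.hom = T.hom ≫ 𝟙 S; rw [Category.id_comp, Category.comp_id])
  have he : ∀ {T T' : Over S} (p : T ⟶ T'), (Over.map o).map p ≫ (e T').hom = (e T).hom ≫ p := fun p =>
    Over.OverMorphism.ext (by show p.left ≫ 𝟙 _ = 𝟙 _ ≫ p.left; simp)
  have hd2 : Flat (Red.diag R ℤ).hom := by
    show Flat (Spec.map (CommRingCat.ofHom (algebraMap R (MonoidAlgebra R (Multiplicative ℤ)))))
    rw [HasRingHomProperty.Spec_iff (P := @Flat)]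
    exact RingHom.flat_algebraMap_iff.mpr inferInstance
  haveI : Flat (Red.bc o (Red.diag R ℤ)).hom :=
    MorphismProperty.of_isPullback (P := (@Flat : MorphismProperty Scheme.{u})) (IsPullback.of_hasPullback _ o) hd2
  haveI : IsAffineHom (Red.bc o (Red.diag R ℤ)).hom :=
    MorphismProperty.of_isPullback (P := (@IsAffineHom : MorphismProperty Scheme.{u})) (IsPullback.of_hasPullback _ o)
      (inferInstanceAs (IsAffineHom (Spec.map (CommRingCat.ofHom (algebraMap R (MonoidAlgebra R (Multiplicative ℤ)))))))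
  have hb₁ := NonAbH1.isTorsorFor_bc o _ hb
  obtain ⟨Q₁, b₁, hQ₁, φ, hφ⟩ := FpqcRep.exists_pushforward ((Over.pullback o).map (jN R N)) (b.bc o) hb₁
  have hφ' : AlgGrp.Action.IsEquivariant (b.bc o) (b₁.restrict ((Over.pullback o).map (jN R N))) φ :=
    isEquivariant_of_points fun T g x => by
      rw [Category.assoc, hφ, comp_lift_assoc, lift_fst_assoc, lift_snd_assoc]
  let V : Over S := Over.mk (𝟙 S)
  haveI : IsAffine V.left := inferInstanceAs (IsAffine S)
  obtain ⟨W, w, -, _, ⟨y, hy⟩, ⟨q⟩⟩ := exists_gm_nbhd hQ₁ V (IsLocalRing.closedPoint R)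
  have htop : w.left.opensRange = ⊤ := by
    ext z
    refine ⟨fun _ => trivial, fun _ => ?_⟩
    exact (IsLocalRing.specializes_closedPoint (z : PrimeSpectrum R)).mem_open w.left.opensRange.2 ⟨y, hy⟩
  haveI : IsIso w.left := isIso_of_isOpenImmersion_of_opensRange_eq_top w.left htop
  let q₁ : 𝟙_ (Over S) ⟶ Q₁ := Over.homMk (inv w.left ≫ q.left) (by
    show (inv w.left ≫ q.left) ≫ Q₁.hom = 𝟙 S
    rw [Category.assoc, Over.w q, IsIso.inv_comp_eq]
    exact (Over.w w).symm)
  obtain ⟨χ₁, hχ₁⟩ := TorsorDesc.exists_act_eq hQ₁.1 φ (toUnit _ ≫ q₁)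
  have hχ₁e : ∀ (T : Over S) (ζ : T ⟶ Red.bc o (Red.diag R (ZMod N))) (p : T ⟶ Red.bc o Q'),
      (lift ζ p ≫ (b.bc o).act) ≫ χ₁ = (ζ ≫ (Over.pullback o).map (jN R N)) * (p ≫ χ₁) := by
    intro T ζ p
    refine TorsorDesc.act_left_injective hQ₁.1 (p := toUnit T ≫ q₁) ?_
    have h1 : ∀ z : T ⟶ Red.bc o Q', lift (z ≫ χ₁) (toUnit T ≫ q₁) ≫ b₁.act = z ≫ φ := fun z => by
      rw [← toUnit_unique (z ≫ toUnit _) (toUnit T), Category.assoc z (toUnit _), ← comp_lift_assoc, hχ₁]
    rw [b₁.lift_mul_act, h1, h1, equivariant_points hφ']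
  let χ : Q' ⟶ Red.diag R ℤ := (e Q').inv ≫ toB o (ofB o (e Q').hom ≫ χ₁)
  have hχp : ∀ {T : Over S} (p : T ⟶ Q'), p ≫ χ = (e T).inv ≫ toB o (ofB o ((e T).hom ≫ p) ≫ χ₁) := by
    intro T p
    rw [← he, ofB_precomp, Category.assoc, toB_precomp]
    show p ≫ (e Q').inv ≫ _ = _
    rw [← Category.assoc, ← Category.assoc]
    congr 1
  have hχe : ∀ (T : Over S) (ζ : T ⟶ Red.diag R (ZMod N)) (p : T ⟶ Q'),
      (lift ζ p ≫ b.act) ≫ χ = (ζ ≫ jN R N) * (p ≫ χ) := by
    intro T ζ p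
    rw [hχp, hχp]
    have h1 : ofB o ((e T).hom ≫ lift ζ p ≫ b.act) =
        lift (ofB o ((e T).hom ≫ ζ)) (ofB o ((e T).hom ≫ p)) ≫ (b.bc o).act := by
      rw [← Category.assoc, comp_lift]
      exact (AlgGrp.Action.lift_homEquiv_bc_act o b _ _).symm
    rw [h1, hχ₁e, toB_mul, MonObj.comp_mul, toB_comp, toB_ofB, Category.assoc, Iso.inv_hom_id_assoc]
  -- the constant
  haveI : Flat (Red.diag R (ZMod N)).hom := by
    show Flat (Spec.map (CommRingCat.ofHom (algebraMap R (MonoidAlgebra R (Multiplicative (ZMod N))))))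
    rw [HasRingHomProperty.Spec_iff (P := @Flat)]
    exact RingHom.flat_algebraMap_iff.mpr inferInstance
  haveI : IsAffineHom (Red.diag R (ZMod N)).hom :=
    inferInstanceAs (IsAffineHom (Spec.map (CommRingCat.ofHom (algebraMap R (MonoidAlgebra R (Multiplicative (ZMod N)))))))
  haveI := HasRingHomProperty.descendsAlong_flat (P := @Flat) GrothLib.AlgSp.codescendsAlong_flat
  haveI : Flat Q'.hom := Torsor21.property @Flat hb ‹Flat (Red.diag R (ZMod N)).hom›
  haveI : IsAffineHom Q'.hom := Torsor21.property @IsAffineHom hb ‹IsAffineHom (Red.diag R (ZMod N)).hom›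
  haveI := Torsor21.surjective_hom hb
  haveI : EffectiveEpi (toUnit Q').left := by
    have : (toUnit Q').left = Q'.hom := (Category.comp_id _).symm.trans (Over.w (toUnit Q'))
    rw [this]; infer_instance
  have hpow : ∀ {T : Over S} (p p' : T ⟶ Q'), val (p ≫ χ) ^ N = val (p' ≫ χ) ^ N := by
    intro T p p'
    obtain ⟨ζ, rfl⟩ := TorsorDesc.exists_act_eq hb.1 p p'
    rw [hχe, val_mul, mul_pow, val_jN_pow, _root_.one_mul]
  obtain ⟨χN, hχN⟩ := exists_val (T := Q') ((isUnit_val χ).pow N)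
  have hχNp : ∀ {T : Over S} (p : T ⟶ Q'), val (p ≫ χN) = val (p ≫ χ) ^ N := fun p => by
    rw [val_precomp p χN, hχN, map_pow, ← val_precomp p χ]
  obtain ⟨c, hc, -⟩ := TorsorDesc.existsUnique_desc (toUnit Q') χN fun T x₁ x₂ _ =>
    val_injective (by rw [hχNp, hχNp, hpow x₁ x₂])
  refine ⟨(Scheme.ΓSpecIso (CommRingCat.of R)).hom (val c), χ,
    (isUnit_val c).map (Scheme.ΓSpecIso (CommRingCat.of R)).hom.hom, hχe, fun T p => ?_⟩
  rw [← hχNp, ← hc, ← Category.assoc, val_precomp]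
  show _ = T.hom.appTop ((Scheme.ΓSpecIso (CommRingCat.of R)).inv ((Scheme.ΓSpecIso (CommRingCat.of R)).hom (val c)))
  have : (p ≫ toUnit Q').left = T.hom := (Category.comp_id _).symm.trans (Over.w (p ≫ toUnit Q'))
  rw [this]
  congr 1
  exact ((Scheme.ΓSpecIso (CommRingCat.of R)).hom_inv_id_apply (val c)).symm

end GrothLib.SekG13
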