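import Groth.Agent.Lib.SekG13.GK

/-!
# The character of a torsor modulo the parameter comes from the base
-/

set_option autoImplicit false
set_option backward.isDefEq.respectTransparency false
set_option backward.isDefEq.respectTransparency.types false

universe u

open CategoryTheory CategoryTheory.Limits AlgebraicGeometry MonoidalCategory CartesianMonoidalCategory MonObj

namespace GrothLib.SekG13

open NoriFGS13 SekGen13

variable {R : Type u} [CommRing R] {lam : R} {N : ℕ} {h : SekSuwa.DivCond lam N} {X : Scheme.{u}}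
  {f : X ⟶ Spec (CommRingCat.of R)} {P : Over X} {a : AlgGrp.Action (Red.bc f (SekSuwa.GK R lam N h)) P}
  {χ : P ⟶ Red.bc f (Red.diag R ℤ)} {u : R}

noncomputable local instance grpGm' {R : Type u} [CommRing R] {X : Scheme.{u}} (f : X ⟶ Spec (CommRingCat.of R)) :
    GrpObj (Red.bc f (Red.diag R ℤ)) := Red.grpObj_bc f _

theorem lamT_pow (T : Over X) : lamT f (lam ^ N) T = lamT f lam T ^ N := map_pow _ _ _

theorem flat_Γ [Flat f] (T : Over X) [IsAffine T.left] [Flat T.hom] :
    letI := algΓ ((Over.map f).obj T)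
    Module.Flat R Γ(((Over.map f).obj T).left, ⊤) := by
  haveI : IsAffine ((Over.map f).obj T).left := inferInstanceAs (IsAffine T.left)
  haveI : Flat (T.hom ≫ f) := inferInstance
  have h1 : (T.hom ≫ f).appTop.hom.Flat := (HasRingHomProperty.iff_of_isAffine (P := @Flat)).mp inferInstance
  have h2 : (Scheme.ΓSpecIso (CommRingCat.of R)).inv.hom.Flat :=
    RingHom.Flat.of_bijective (ConcreteCategory.bijective_of_isIso _)
  exact h2.comp h1

/-- The character modulo the parameter descends, and its power is the constant modulo the power of the parameter. -/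
theorem exists_w [IsDomain R] (hlam : lam ≠ 0) (hN : 0 < N) (ha : NonAbH1.IsTorsorFor Scheme.fpqcPrecoverage a)
    (hχ : ∀ (T : Over X) (γ : T ⟶ Red.bc f (SekSuwa.GK R lam N h)) (p : T ⟶ P),
      (lift γ p ≫ a.act) ≫ χ = (γ ≫ alK f h) * (p ≫ χ))
    (hu : ∀ (T : Over X) (p : T ⟶ P), vf (p ≫ χ) ^ N = lamT f u T) (U : Over X) [IsAffine U.left] :
    ∃ w : Γ(U.left, ⊤), lamT f (lam ^ N) U ∣ w ^ N - lamT f u U ∧
      ∀ (T : Over X) (g : T ⟶ U) (p : T ⟶ P), lamT f lam T = 0 → vf (p ≫ χ) = g.left.appTop w := by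
  obtain ⟨T₀, h₀, hT₀, hsurj, -, hfac⟩ := exists_vanishing f lam U
  haveI := NoriFGS13.effectiveEpi_snd ha T₀
  obtain ⟨δ₀, hδ₀, -⟩ := TorsorDesc.existsUnique_desc (snd P T₀) (fst P T₀ ≫ χ) fun T x₁ x₂ e => by
    have hT : lamT f lam T = 0 := by rw [← lamT_precomp f (x₁ ≫ snd P T₀), hT₀, map_zero]
    rw [← Category.assoc, ← Category.assoc]
    exact chi_eq_of_lamT ha.1 hχ hT _ _
  obtain ⟨w, hw⟩ := hsurj (vf δ₀)
  have key : ∀ (T : Over X) (g : T ⟶ U) (p : T ⟶ P), lamT f lam T = 0 → vf (p ≫ χ) = g.left.appTop w := by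
    intro T g p hT
    obtain ⟨g', rfl⟩ := hfac T g hT
    have e : p ≫ χ = g' ≫ δ₀ := by rw [← lift_snd p g', Category.assoc, hδ₀, lift_fst_assoc]
    rw [e, vf_precomp, ← hw]
    show (h₀.left.appTop ≫ g'.left.appTop) w = (g' ≫ h₀).left.appTop w
    rw [Over.comp_left, Scheme.Hom.comp_appTop]
  refine ⟨w, ?_, key⟩
  obtain ⟨⟨hf1, hf2, -⟩, -⟩ := Groth.Agent.S14694.result R lam N hN h
  have hGfl : Flat (Red.bc f (SekSuwa.GK R lam N h)).hom :=
    MorphismProperty.of_isPullback (P := (@Flat : MorphismProperty Scheme.{u})) (IsPullback.of_hasPullback _ f) hf2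
  have hGaff : IsAffineHom (Red.bc f (SekSuwa.GK R lam N h)).hom :=
    MorphismProperty.of_isPullback (P := (@IsAffineHom : MorphismProperty Scheme.{u})) (IsPullback.of_hasPullback _ f)
      (inferInstanceAs (IsAffineHom (Spec.map (CommRingCat.ofHom (algebraMap R (SekSuwa.AK R lam N h))))))
  haveI := HasRingHomProperty.descendsAlong_flat (P := @Flat) GrothLib.AlgSp.codescendsAlong_flat
  haveI : Flat P.hom := Torsor21.property @Flat ha hGfl
  haveI : IsAffineHom P.hom := Torsor21.property @IsAffineHom ha hGaff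
  haveI := Torsor21.surjective_hom ha
  let E : Over X := P ⊗ U
  let e : E ⟶ U := snd P U
  haveI : Flat e.left := inferInstanceAs (Flat (pullback.snd P.hom U.hom))
  haveI : Surjective e.left := inferInstanceAs (Surjective (pullback.snd P.hom U.hom))
  haveI : IsAffineHom (pullback.snd P.hom U.hom) :=
    MorphismProperty.pullback_snd (P := @IsAffineHom) P.hom U.hom ‹IsAffineHom P.hom›
  haveI : IsAffine E.left := isAffine_of_isAffineHom (pullback.snd P.hom U.hom)
  letI : Algebra Γ(U.left, ⊤) Γ(E.left, ⊤) := e.left.appTop.hom.toAlgebra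
  haveI : Module.FaithfullyFlat Γ(U.left, ⊤) Γ(E.left, ⊤) := by
    haveI : Module.Flat Γ(U.left, ⊤) Γ(E.left, ⊤) :=
      (HasRingHomProperty.iff_of_isAffine (P := @Flat) (f := e.left)).mp inferInstance
    have : Surjective (Spec.map e.left.appTop) := by
      rw [show Spec.map e.left.appTop = E.left.isoSpec.inv ≫ e.left ≫ U.left.isoSpec.hom by
        rw [← Category.assoc, ← Scheme.isoSpec_inv_naturality, Category.assoc, Iso.inv_hom_id, Category.comp_id]]
      infer_instance
    exact Module.FaithfullyFlat.of_comap_surjective this.surj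
  let c : Γ(E.left, ⊤) := vf (fst P U ≫ χ)
  obtain ⟨E₀, i₀, hE₀, -, hkerE, -⟩ := exists_vanishing f lam E
  obtain ⟨d, hd⟩ : ∃ d, d * lamT f lam E = e.left.appTop w - c := Ideal.mem_span_singleton'.1 (hkerE _ (by
    rw [map_sub, sub_eq_zero]
    show (e.left.appTop ≫ i₀.left.appTop) w = _
    rw [← Scheme.Hom.comp_appTop, ← Over.comp_left, ← key E₀ (i₀ ≫ e) (i₀ ≫ fst P U) hE₀, Category.assoc,
      vf_precomp]))
  letI : Algebra R Γ(E.left, ⊤) := algΓ ((Over.map f).obj E)
  obtain ⟨z, hz⟩ := exists_pow_add_mul (A := Γ(E.left, ⊤)) h hlam hN c d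
  have hz' : e.left.appTop w ^ N - lamT f u E = lamT f (lam ^ N) E * z := by
    have hwc : e.left.appTop w = c + lamT f lam E * d := by rw [mul_comm, hd, add_sub_cancel]
    rw [hwc, ← hu E (fst P U), sub_eq_iff_eq_add']
    exact hz
  rw [← Ideal.mem_span_singleton, ← Ideal.comap_map_eq_self_of_faithfullyFlat (B := Γ(E.left, ⊤))
    (Ideal.span {lamT f (lam ^ N) U}), Ideal.mem_comap, Ideal.map_span, Set.image_singleton]
  refine Ideal.mem_span_singleton.2 ⟨z, ?_⟩
  show e.left.appTop (w ^ N - lamT f u U) = e.left.appTop (lamT f (lam ^ N) U) * z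
  rw [map_sub, map_pow, lamT_precomp, lamT_precomp, hz']

/-- Reduced special fibre: nilpotents modulo the uniformizer vanish. -/
theorem dvd_of_dvd_pow [IsDomain R] [IsDiscreteValuationRing R] {π : R} (hπ : Irreducible π) (U : Over X)
    [IsAffine U.left] [IsOpenImmersion U.hom]
    [AlgebraicGeometry.IsReduced (pullback f (Spec.map (CommRingCat.ofHom (IsLocalRing.residue R))))]
    {x : Γ(U.left, ⊤)} {n : ℕ} (hx : lamT f π U ∣ x ^ n) : lamT f π U ∣ x := by
  obtain ⟨T₀, h₀, hT₀, -, hker, -⟩ := exists_vanishing f π U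
  let ι₀ := Spec.map (CommRingCat.ofHom (IsLocalRing.residue R))
  let Z := pullback U.hom (pullback.fst f ι₀)
  haveI : IsOpenImmersion (pullback.snd U.hom (pullback.fst f ι₀)) := inferInstance
  haveI : AlgebraicGeometry.IsReduced Z := isReduced_of_isOpenImmersion (pullback.snd U.hom (pullback.fst f ι₀))
  let ZU : Over X := Over.mk (pullback.fst U.hom (pullback.fst f ι₀) ≫ U.hom)
  let zU : ZU ⟶ U := Over.homMk (pullback.fst U.hom (pullback.fst f ι₀)) rfl
  have hZ : lamT f π ZU = 0 := by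
    show ((pullback.fst U.hom (pullback.fst f ι₀) ≫ U.hom) ≫ f).appTop.hom
      ((Scheme.ΓSpecIso (CommRingCat.of R)).inv π) = 0
    rw [pullback.condition, Category.assoc, pullback.condition, Scheme.Hom.comp_appTop, Scheme.Hom.comp_appTop]
    show (pullback.snd U.hom (pullback.fst f ι₀)).appTop
      ((pullback.snd f ι₀).appTop (((Scheme.ΓSpecIso (CommRingCat.of R)).inv ≫ ι₀.appTop) π)) = 0
    rw [← Scheme.ΓSpecIso_inv_naturality]
    show (pullback.snd U.hom (pullback.fst f ι₀)).appTop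
      ((pullback.snd f ι₀).appTop ((Scheme.ΓSpecIso _).inv (IsLocalRing.residue R π))) = 0
    rw [(IsLocalRing.residue_eq_zero_iff π).2 (by rw [hπ.maximalIdeal_eq]; exact Ideal.mem_span_singleton_self π),
      map_zero, map_zero, map_zero]
  obtain ⟨v, hv⟩ := hx
  have h0 : zU.left.appTop x = 0 := by
    haveI : _root_.IsReduced Γ(ZU.left, ⊤) := inferInstanceAs (_root_.IsReduced Γ(Z, ⊤))
    refine IsNilpotent.eq_zero ⟨n, ?_⟩
    rw [← map_pow, hv, map_mul, lamT_precomp, hZ, MulZeroClass.zero_mul]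
  obtain ⟨w, -⟩ := exists_ptRing (B := IsLocalRing.ResidueField R) (T := (Over.map f).obj T₀)
    (Ideal.Quotient.lift _ (strR ((Over.map f).obj T₀)) (fun r hr => by
      rw [hπ.maximalIdeal_eq] at hr
      obtain ⟨c, rfl⟩ := Ideal.mem_span_singleton'.1 hr
      rw [map_mul, show strR ((Over.map f).obj T₀) π = 0 from hT₀, MulZeroClass.mul_zero]))
    (RingHom.ext fun _ => rfl)
  let g₁ : T₀.left ⟶ pullback f ι₀ := pullback.lift T₀.hom w.left (Over.w w).symm
  let g : T₀ ⟶ ZU := Over.homMk (pullback.lift h₀.left g₁ (by rw [Over.w h₀, pullback.lift_fst])) (by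
    show _ ≫ _ ≫ _ = _
    rw [pullback.lift_fst_assoc, Over.w h₀])
  have hg : g ≫ zU = h₀ := Over.OverMorphism.ext (pullback.lift_fst _ _ _)
  refine Ideal.mem_span_singleton.1 (hker x ?_)
  rw [← hg]
  show g.left.appTop (zU.left.appTop x) = 0
  rw [h0, map_zero]

set_option maxHeartbeats 1000000 in
/-- With a reduced special fibre torsors of the same class have characters agreeing modulo the parameter. -/
theorem chi_agree [IsDomain R] [IsDiscreteValuationRing R] (hlam : lam ≠ 0) (hN : 0 < N) [Flat f]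
    [AlgebraicGeometry.IsReduced (pullback f (Spec.map (CommRingCat.ofHom (IsLocalRing.residue R))))]
    {P₂ : Over X} {a₂ : AlgGrp.Action (Red.bc f (SekSuwa.GK R lam N h)) P₂} {χ₂ : P₂ ⟶ Red.bc f (Red.diag R ℤ)}
    (ha : NonAbH1.IsTorsorFor Scheme.fpqcPrecoverage a) (ha₂ : NonAbH1.IsTorsorFor Scheme.fpqcPrecoverage a₂)
    (hχ : ∀ (T : Over X) (γ : T ⟶ Red.bc f (SekSuwa.GK R lam N h)) (p : T ⟶ P),
      (lift γ p ≫ a.act) ≫ χ = (γ ≫ alK f h) * (p ≫ χ))
    (hχ₂ : ∀ (T : Over X) (γ : T ⟶ Red.bc f (SekSuwa.GK R lam N h)) (p : T ⟶ P₂),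
      (lift γ p ≫ a₂.act) ≫ χ₂ = (γ ≫ alK f h) * (p ≫ χ₂))
    (hu : ∀ (T : Over X) (p : T ⟶ P), vf (p ≫ χ) ^ N = lamT f u T)
    (hu₂ : ∀ (T : Over X) (p : T ⟶ P₂), vf (p ≫ χ₂) ^ N = lamT f u T)
    (T : Over X) (p : T ⟶ P) (p₂ : T ⟶ P₂) (hT : lamT f lam T = 0) : p ≫ χ = p₂ ≫ χ₂ := by
  obtain ⟨π, hπ⟩ := IsDiscreteValuationRing.exists_irreducible R
  apply Over.OverMorphism.ext
  refine Scheme.Cover.hom_ext (X.affineCover.pullback₁ T.hom) _ _ fun i => ?_
  let Ti : Over X := Over.mk (pullback.fst T.hom (X.affineCover.f i) ≫ T.hom)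
  let ti : Ti ⟶ T := Over.homMk (pullback.fst T.hom (X.affineCover.f i)) rfl
  suffices ti ≫ p ≫ χ = ti ≫ p₂ ≫ χ₂ from congrArg CommaMorphism.left this
  let U : Over X := Over.mk (X.affineCover.f i)
  haveI : IsAffine U.left := inferInstanceAs (IsAffine (X.affineCover.X i))
  haveI : IsOpenImmersion U.hom := inferInstanceAs (IsOpenImmersion (X.affineCover.f i))
  let g : Ti ⟶ U := Over.homMk (pullback.snd T.hom (X.affineCover.f i)) pullback.condition.symm
  obtain ⟨w, hw, kw⟩ := exists_w hlam hN ha hχ hu U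
  obtain ⟨w₂, hw₂, kw₂⟩ := exists_w hlam hN ha₂ hχ₂ hu₂ U
  letI : Algebra R Γ(U.left, ⊤) := algΓ ((Over.map f).obj U)
  haveI : Module.Flat R Γ(U.left, ⊤) := flat_Γ U
  obtain ⟨d, hd⟩ := sub_mem_of_pow (A := Γ(U.left, ⊤)) h hlam hN hπ
    (fun x hx => dvd_of_dvd_pow (f := f) hπ U hx) (w := w) (c := w₂) (by
      have := dvd_sub hw hw₂
      rwa [sub_sub_sub_cancel_right] at this)
  have hTi : lamT f lam Ti = 0 := by rw [← lamT_precomp f ti, hT, map_zero]
  refine vf_injective ?_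
  rw [← Category.assoc, ← Category.assoc, kw Ti g _ hTi, kw₂ Ti g _ hTi, ← sub_eq_zero, ← map_sub, hd, map_mul]
  show g.left.appTop (lamT f lam U) * _ = 0
  rw [lamT_precomp, hTi, MulZeroClass.zero_mul]

end GrothLib.SekG13
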