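import Groth.Agent.Lib.SekG13.Pts
import Groth.Agent.Lib.NoriFGS13.Gen
import Groth.Agent.Lib.Torsor21.Local
import Groth.Agent.Lib.AlgSp.FppfDescent
import Groth.Agent.Lib.FpqcRep.Torsor
import Groth.Agent.S12837
import Mathlib.AlgebraicGeometry.Gluing
import Mathlib.RingTheory.Flat.Localization
import Mathlib.RingTheory.Flat.Stability

/-!
# Torsors under the one-parameter groups from torsors under the multiplicative group
-/

set_option autoImplicit false
set_option backward.isDefEq.respectTransparency false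
set_option backward.isDefEq.respectTransparency.types false

universe u

open CategoryTheory CategoryTheory.Limits AlgebraicGeometry MonoidalCategory CartesianMonoidalCategory MonObj

namespace GrothLib.SekG13

open NoriFGS13 SekGen13

section Flat

variable (R : Type u) [CommRing R] (lam : R)

open Polynomial in
theorem flat_A : Module.Flat R (SekSuwa.A R lam) := by
  let u₀ : R[X] := 1 + C lam * X
  let L := Localization.Away u₀
  have hc : (1 + lam • algebraMap R[X] L X) * IsLocalization.Away.invSelf u₀ = 1 := by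
    have h1 : (1 : L) + lam • algebraMap R[X] L X = algebraMap R[X] L u₀ := by
      rw [Algebra.smul_def, IsScalarTower.algebraMap_apply R R[X] L, map_add, map_one, map_mul]
      rfl
    rw [h1]; exact IsLocalization.Away.mul_invSelf u₀
  let φ : SekSuwa.A R lam →ₐ[R] L := SekSuwa.A.lift R lam (algebraMap R[X] L X) (IsLocalization.Away.invSelf u₀) hc
  let g : R[X] →ₐ[R] SekSuwa.A R lam := aeval SekSuwa.A.t
  have hg : g u₀ = SekSuwa.A.u := by simp [g, u₀, SekSuwa.A.u, Algebra.smul_def]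
  have hgu : ∀ y : Submonoid.powers u₀, IsUnit (g.toRingHom y) := by
    rintro ⟨_, n, rfl⟩
    show IsUnit (g (u₀ ^ n))
    rw [map_pow, hg]
    exact SekSuwa.A.isUnit_u.pow n
  let ψ₀ : L →+* SekSuwa.A R lam := IsLocalization.lift (M := Submonoid.powers u₀) hgu
  have hψc : ∀ z, ψ₀ (algebraMap R[X] L z) = g z := fun z => IsLocalization.lift_eq hgu z
  have hψr : ∀ r : R, ψ₀ (algebraMap R L r) = algebraMap R (SekSuwa.A R lam) r := fun r => by
    rw [IsScalarTower.algebraMap_apply R R[X] L, hψc]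
    exact g.commutes r
  let ψ : L →ₐ[R] SekSuwa.A R lam := { ψ₀ with commutes' := hψr }
  have h1 : ψ.comp φ = AlgHom.id R _ := by
    refine SekSuwa.A.algHom_ext ?_ ?_
    · show ψ₀ (φ SekSuwa.A.t) = SekSuwa.A.t
      rw [SekSuwa.A.lift_t, hψc]
      exact aeval_X _
    · show ψ₀ (φ SekSuwa.A.inv) = SekSuwa.A.inv
      rw [SekSuwa.A.lift_inv]
      refine SekSuwa.A.isUnit_u.mul_left_cancel ?_
      rw [SekSuwa.A.u_mul_inv, ← hg, ← hψc, ← map_mul, IsLocalization.Away.mul_invSelf, map_one]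
  have h2 : φ.comp ψ = AlgHom.id R L := by
    refine AlgHom.coe_ringHom_injective (IsLocalization.ringHom_ext (Submonoid.powers u₀) ?_)
    refine Polynomial.ringHom_ext (fun r => ?_) ?_
    · show φ (ψ₀ (algebraMap R[X] L (C r))) = algebraMap R[X] L (C r)
      rw [hψc, show g (C r) = algebraMap R _ r from aeval_C _ _, AlgHom.commutes]
      exact IsScalarTower.algebraMap_apply R R[X] L r
    · show φ (ψ₀ (algebraMap R[X] L X)) = algebraMap R[X] L X
      rw [hψc, show g X = SekSuwa.A.t from aeval_X _, SekSuwa.A.lift_t]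
  let e : L ≃ₐ[R] SekSuwa.A R lam := AlgEquiv.ofAlgHom ψ φ h1 h2
  haveI : Module.Flat R[X] L := IsLocalization.flat L (Submonoid.powers u₀)
  haveI : Module.Flat R L := Module.Flat.trans R R[X] L
  exact Module.Flat.of_linearEquiv e.symm.toLinearEquiv

theorem flat_G : Flat (SekSuwa.G R lam).hom := by
  show Flat (Spec.map (CommRingCat.ofHom (algebraMap R (SekSuwa.A R lam))))
  rw [HasRingHomProperty.Spec_iff (P := @Flat)]
  exact RingHom.flat_algebraMap_iff.mpr (flat_A R lam)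

theorem lfp_G : LocallyOfFinitePresentation (SekSuwa.G R lam).hom := by
  show LocallyOfFinitePresentation (Spec.map (CommRingCat.ofHom (algebraMap R (SekSuwa.A R lam))))
  rw [HasRingHomProperty.Spec_iff (P := @LocallyOfFinitePresentation)]
  refine RingHom.finitePresentation_algebraMap.mpr ?_
  haveI : Algebra.FinitePresentation R (SekSuwa.Poly R lam) := Algebra.FinitePresentation.mvPolynomial R R (Fin 2)
  exact Algebra.FinitePresentation.quotient (R := R) (A := SekSuwa.Poly R lam) (Submodule.fg_span_singleton _)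

theorem lfp_diag [IsNoetherianRing R] : LocallyOfFinitePresentation (Red.diag R ℤ).hom := by
  show LocallyOfFinitePresentation (Spec.map (CommRingCat.ofHom (algebraMap R (MonoidAlgebra R (Multiplicative ℤ)))))
  rw [HasRingHomProperty.Spec_iff (P := @LocallyOfFinitePresentation)]
  refine RingHom.finitePresentation_algebraMap.mpr ?_
  haveI : Algebra.FiniteType R (MonoidAlgebra R (Multiplicative ℤ)) := inferInstance
  exact Algebra.FinitePresentation.of_finiteType.mp inferInstance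

end Flat

variable {R : Type u} [CommRing R] {lam : R} {X : Scheme.{u}} (f : X ⟶ Spec (CommRingCat.of R))

set_option quotPrecheck false in
local notation "αX" => (Over.pullback f).map (SekSuwa.alpha R lam)

/-- The parameter as a function. -/
noncomputable def lamT (lam : R) (T : Over X) : Γ(T.left, ⊤) := strR ((Over.map f).obj T) lam

theorem lamT_precomp {T T' : Over X} (h : T' ⟶ T) : h.left.appTop (lamT f lam T) = lamT f lam T' := by
  show ((T.hom ≫ f).appTop ≫ h.left.appTop).hom ((Scheme.ΓSpecIso (CommRingCat.of R)).inv lam) = _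
  rw [← Scheme.Hom.comp_appTop, ← Category.assoc, Over.w h]
  rfl

variable {f}

/-- The value of a point of the multiplicative group over `X`. -/
noncomputable def vf {T : Over X} (δ : T ⟶ Red.bc f (Red.diag R ℤ)) : Γ(T.left, ⊤) := val (toB f δ)

theorem vf_precomp {T T' : Over X} (h : T' ⟶ T) (δ : T ⟶ Red.bc f (Red.diag R ℤ)) :
    vf (h ≫ δ) = h.left.appTop (vf δ) := by
  rw [vf, toB_precomp, val_precomp]
  rfl

theorem vf_mul {T : Over X} (δ δ' : T ⟶ Red.bc f (Red.diag R ℤ)) : vf (δ * δ') = vf δ * vf δ' := by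
  rw [vf, toB_mul, val_mul]; rfl

theorem vf_injective {T : Over X} {δ δ' : T ⟶ Red.bc f (Red.diag R ℤ)} (h : vf δ = vf δ') : δ = δ' :=
  toB_injective f (val_injective h)

theorem vf_one {T : Over X} : vf (1 : T ⟶ Red.bc f (Red.diag R ℤ)) = 1 := by
  have h := (congrArg vf (_root_.mul_one (1 : T ⟶ Red.bc f (Red.diag R ℤ)))).symm.trans (vf_mul 1 1)
  exact ((isUnit_val (toB f (1 : T ⟶ Red.bc f (Red.diag R ℤ)))).mul_left_cancel
    ((_root_.mul_one _).trans h)).symm

theorem exists_vf {T : Over X} {v : Γ(T.left, ⊤)} (hv : IsUnit v) : ∃ δ : T ⟶ Red.bc f (Red.diag R ℤ), vf δ = v := by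
  obtain ⟨δ, hδ⟩ := exists_val (T := (Over.map f).obj T) hv
  exact ⟨ofB f δ, by rw [vf, toB_ofB, hδ]⟩

/-- The coordinate of a point of the one-parameter group over `X`. -/
noncomputable def cf {T : Over X} (γ : T ⟶ Red.bc f (SekSuwa.G R lam)) : Γ(T.left, ⊤) := coord (toB f γ)

theorem vf_alpha {T : Over X} (γ : T ⟶ Red.bc f (SekSuwa.G R lam)) :
    vf (γ ≫ αX) = 1 + lamT f lam T * cf γ := by
  unfold vf
  rw [toB_comp, val_alpha]; rfl

theorem isSMulRegular_lamT [IsDomain R] (hlam : lam ≠ 0) [Flat f] (T : Over X) [IsAffine T.left] [Flat T.hom]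
    {b b' : Γ(T.left, ⊤)} (h : lamT f lam T * b = lamT f lam T * b') : b = b' := by
  letI : Algebra R Γ(T.left, ⊤) := (strR ((Over.map f).obj T)).toAlgebra
  haveI : Module.Flat R Γ(T.left, ⊤) := by
    haveI : Flat (T.hom ≫ f) := inferInstance
    have h1 : (T.hom ≫ f).appTop.hom.Flat := (HasRingHomProperty.iff_of_isAffine (P := @Flat)).mp inferInstance
    have h2 : (Scheme.ΓSpecIso (CommRingCat.of R)).inv.hom.Flat :=
      RingHom.Flat.of_bijective (ConcreteCategory.bijective_of_isIso _)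
    exact h2.comp h1
  exact (IsSMulRegular.of_flat (S := Γ(T.left, ⊤)) (IsSMulRegular.of_ne_zero hlam))
    (show algebraMap R Γ(T.left, ⊤) lam • b = algebraMap R Γ(T.left, ⊤) lam • b' from h)

theorem alpha_injective [IsDomain R] (hlam : lam ≠ 0) [Flat f] {T : Over X} [Flat T.hom]
    {γ γ' : T ⟶ Red.bc f (SekSuwa.G R lam)} (h : γ ≫ αX = γ' ≫ αX) : γ = γ' := by
  apply Over.OverMorphism.ext
  refine Scheme.Cover.hom_ext T.left.affineCover _ _ fun i => ?_
  let T' : Over X := Over.mk (T.left.affineCover.f i ≫ T.hom)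
  let c : T' ⟶ T := Over.homMk (T.left.affineCover.f i) rfl
  haveI : IsAffine T'.left := inferInstanceAs (IsAffine (T.left.affineCover.X i))
  haveI : Flat T'.hom := inferInstanceAs (Flat (T.left.affineCover.f i ≫ T.hom))
  suffices c ≫ γ = c ≫ γ' from congrArg CommaMorphism.left this
  refine toB_injective f (coord_injective (isSMulRegular_lamT (f := f) hlam T' (b := cf (c ≫ γ)) (b' := cf (c ≫ γ')) ?_))
  have h' : vf ((c ≫ γ) ≫ αX) = vf ((c ≫ γ') ≫ αX) := by rw [Category.assoc, Category.assoc, h]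
  rw [vf_alpha, vf_alpha] at h'
  exact add_left_cancel h'

variable {P Q : Over X} {a : AlgGrp.Action (Red.bc f (SekSuwa.G R lam)) P}
  {b : AlgGrp.Action (Red.bc f (Red.diag R ℤ)) Q} {φ : P ⟶ Q}

/-- Two points of the torsor with the same image agree over a flat base. -/
theorem eq_of_push_eq [IsDomain R] (hlam : lam ≠ 0) [Flat f] (ha : NonAbH1.IsPseudoTorsorSch a)
    (hb : NonAbH1.IsPseudoTorsorSch b) (hφ : AlgGrp.Action.IsEquivariant a (b.restrict αX) φ) {T : Over X}
    [Flat T.hom] {p₁ p₂ : T ⟶ P} (h : p₁ ≫ φ = p₂ ≫ φ) : p₁ = p₂ := by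
  obtain ⟨γ, rfl⟩ := TorsorDesc.exists_act_eq ha p₁ p₂
  rw [equivariant_points hφ] at h
  have h' : γ ≫ αX = 1 := TorsorDesc.act_left_injective hb (h.trans (b.lift_one_act (p₂ ≫ φ)).symm)
  have : γ = 1 := alpha_injective hlam (h'.trans (MonObj.one_comp αX).symm)
  rw [this, AlgGrp.Action.lift_one_act]

/-- Where the parameter vanishes all points have the same image. -/
theorem push_eq_of_lamT_eq_zero (ha : NonAbH1.IsPseudoTorsorSch a)
    (hφ : AlgGrp.Action.IsEquivariant a (b.restrict αX) φ) {T : Over X} (hT : lamT f lam T = 0) (p₁ p₂ : T ⟶ P) :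
    p₁ ≫ φ = p₂ ≫ φ := by
  obtain ⟨γ, rfl⟩ := TorsorDesc.exists_act_eq ha p₁ p₂
  have : γ ≫ αX = 1 := vf_injective (by rw [vf_alpha, hT, MulZeroClass.zero_mul, add_zero, vf_one])
  rw [equivariant_points hφ, this, AlgGrp.Action.lift_one_act]

/-- A point of the push forward agreeing with the torsor where the parameter vanishes lifts. -/
theorem exists_lift_of_section [IsDomain R] (hlam : lam ≠ 0) [Flat f]
    (ha : NonAbH1.IsTorsorFor Scheme.fpqcPrecoverage a) (hb : NonAbH1.IsPseudoTorsorSch b)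
    (hφ : AlgGrp.Action.IsEquivariant a (b.restrict αX) φ) (Z : Over X) [Flat Z.hom] (q : Z ⟶ Q)
    (hq : ∀ (T : Over X) (h : T ⟶ Z) (p : T ⟶ P), lamT f lam T = 0 → p ≫ φ = h ≫ q) :
    Nonempty (Z ⟶ P) := by
  -- local solutions on flat affine schemes
  have hsol : ∀ (T : Over X) [IsAffine T.left] [Flat T.hom] (h : T ⟶ Z) (p : T ⟶ P),
      ∃ σ : T ⟶ P, σ ≫ φ = h ≫ q := by
    intro T _ _ h p
    obtain ⟨δ, hδ⟩ := TorsorDesc.exists_act_eq hb (h ≫ q) (p ≫ φ)
    let I : Ideal Γ(T.left, ⊤) := Ideal.span {lamT f lam T}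
    let g : Spec (CommRingCat.of (Γ(T.left, ⊤) ⧸ I)) ⟶ T.left :=
      Spec.map (CommRingCat.ofHom (Ideal.Quotient.mk I)) ≫ T.left.isoSpec.inv
    have hg : ∀ x : Γ(T.left, ⊤), g.appTop x = 0 ↔ x ∈ I := by
      intro x
      have e : g.appTop ≫ (Scheme.ΓSpecIso (CommRingCat.of (Γ(T.left, ⊤) ⧸ I))).hom =
          CommRingCat.ofHom (Ideal.Quotient.mk I) := by
        rw [show g.appTop = T.left.isoSpec.inv.appTop ≫ (Spec.map (CommRingCat.ofHom (Ideal.Quotient.mk I))).appTop from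
          Scheme.Hom.comp_appTop _ _, Category.assoc, Scheme.ΓSpecIso_naturality, ← Category.assoc]
        have : T.left.isoSpec.inv.appTop ≫ (Scheme.ΓSpecIso (CommRingCat.of Γ(T.left, ⊤))).hom = 𝟙 _ := by
          rw [← cancel_epi T.left.isoSpec.hom.appTop]
          erw [← Category.assoc, ← Scheme.Hom.comp_appTop, Iso.inv_hom_id]
          simp [Scheme.isoSpec, Scheme.toSpecΓ_appTop]
          rfl
        rw [this, Category.id_comp]
      have hx := DFunLike.congr_fun (congrArg CommRingCat.Hom.hom e) x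
      rw [← Ideal.Quotient.eq_zero_iff_mem]
      constructor
      · intro h0; refine hx.symm.trans ?_; show (Scheme.ΓSpecIso _).hom (g.appTop x) = 0; rw [h0, map_zero]
      · intro h0
        apply (ConcreteCategory.bijective_of_isIso (Scheme.ΓSpecIso (CommRingCat.of (Γ(T.left, ⊤) ⧸ I))).hom).1
        rw [map_zero]
        exact hx.trans h0
    let T₀ : Over X := Over.mk (g ≫ T.hom)
    let h₀ : T₀ ⟶ T := Over.homMk g rfl
    have hT₀ : lamT f lam T₀ = 0 := by
      rw [← lamT_precomp f h₀]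
      exact (hg _).2 (Ideal.mem_span_singleton_self _)
    have hδ₀ : h₀ ≫ δ = 1 := by
      refine TorsorDesc.act_left_injective hb (p := h₀ ≫ p ≫ φ) ?_
      rw [← comp_lift_assoc, hδ, AlgGrp.Action.lift_one_act, ← Category.assoc h₀ p, hq T₀ (h₀ ≫ h) (h₀ ≫ p) hT₀,
        Category.assoc]
    have hz : vf δ - 1 ∈ I := by
      rw [← hg, map_sub, map_one, sub_eq_zero]
      exact ((vf_precomp h₀ δ).symm.trans (congrArg vf hδ₀)).trans vf_one
    obtain ⟨c, hc⟩ := Ideal.mem_span_singleton'.1 hz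
    have hc' : vf δ = 1 + lamT f lam T * c := by rw [mul_comm, hc, add_sub_cancel]
    obtain ⟨w, hw⟩ := exists_coord (T := (Over.map f).obj T) (lam := lam) (b := c)
      (show IsUnit (1 + lamT f lam T * c) by rw [← hc']; exact isUnit_val _)
    refine ⟨lift (ofB f w) p ≫ a.act, ?_⟩
    have hw' : ofB f w ≫ αX = δ := vf_injective (by rw [vf_alpha, cf, toB_ofB, hw, hc'])
    rw [equivariant_points hφ, hw', hδ]
  haveI := flat_G R lam
  haveI hGfl : Flat (Red.bc f (SekSuwa.G R lam)).hom :=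
    MorphismProperty.of_isPullback (P := (@Flat : MorphismProperty Scheme.{u})) (IsPullback.of_hasPullback _ f) ‹_›
  haveI := HasRingHomProperty.descendsAlong_flat (P := @Flat) GrothLib.AlgSp.codescendsAlong_flat
  haveI hPfl : Flat P.hom := Torsor21.property @Flat ha hGfl
  haveI : Flat (P ⊗ Z).hom := inferInstanceAs (Flat (pullback.fst P.hom Z.hom ≫ P.hom))
  -- glue on an affine cover of the torsor over the given object
  let 𝒰 := (P ⊗ Z).left.affineCover
  let U : ∀ i, Over X := fun i => Over.mk (𝒰.f i ≫ (P ⊗ Z).hom)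
  let c : ∀ i, U i ⟶ P ⊗ Z := fun i => Over.homMk (𝒰.f i) rfl
  have hloc : ∀ i, ∃ σ : U i ⟶ P, σ ≫ φ = (c i ≫ snd P Z) ≫ q := fun i => by
    haveI : IsAffine (U i).left := inferInstanceAs (IsAffine ((P ⊗ Z).left.affineCover.X i))
    haveI : Flat (U i).hom := inferInstanceAs (Flat (𝒰.f i ≫ (P ⊗ Z).hom))
    exact hsol _ (c i ≫ snd P Z) (c i ≫ fst P Z)
  choose σ hσ using hloc
  have hagree : ∀ i j, pullback.fst (𝒰.f i) (𝒰.f j) ≫ (σ i).left = pullback.snd (𝒰.f i) (𝒰.f j) ≫ (σ j).left := by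
    intro i j
    let W : Over X := Over.mk (pullback.fst (𝒰.f i) (𝒰.f j) ≫ 𝒰.f i ≫ (P ⊗ Z).hom)
    let w₁ : W ⟶ U i := Over.homMk (pullback.fst (𝒰.f i) (𝒰.f j)) rfl
    let w₂ : W ⟶ U j := Over.homMk (pullback.snd (𝒰.f i) (𝒰.f j)) (by
      show pullback.snd _ _ ≫ 𝒰.f j ≫ (P ⊗ Z).hom = pullback.fst _ _ ≫ 𝒰.f i ≫ (P ⊗ Z).hom
      rw [← pullback.condition_assoc])
    haveI : Flat W.hom := inferInstanceAs (Flat (pullback.fst (𝒰.f i) (𝒰.f j) ≫ 𝒰.f i ≫ (P ⊗ Z).hom))
    have hw : w₁ ≫ c i = w₂ ≫ c j := Over.OverMorphism.ext pullback.condition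
    refine congrArg CommaMorphism.left (eq_of_push_eq hlam ha.1 hb hφ (p₁ := w₁ ≫ σ i) (p₂ := w₂ ≫ σ j) ?_)
    rw [Category.assoc, Category.assoc, hσ, hσ, ← Category.assoc, ← Category.assoc, ← Category.assoc, hw,
      Category.assoc w₂]
  let s := 𝒰.glueMorphisms (fun i => (σ i).left) hagree
  have hs : ∀ i, 𝒰.f i ≫ s = (σ i).left := fun i => Scheme.Cover.ι_glueMorphisms 𝒰 _ _ i
  have hsw : s ≫ P.hom = (P ⊗ Z).hom := by
    refine Scheme.Cover.hom_ext 𝒰 _ _ fun i => ?_
    rw [← Category.assoc, hs]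
    exact Over.w (σ i)
  let σ₀ : P ⊗ Z ⟶ P := Over.homMk s hsw
  have hσ₀ : σ₀ ≫ φ = snd P Z ≫ q := by
    apply Over.OverMorphism.ext
    refine Scheme.Cover.hom_ext 𝒰 _ _ fun i => ?_
    show 𝒰.f i ≫ s ≫ φ.left = 𝒰.f i ≫ ((snd P Z).left ≫ q.left)
    rw [← Category.assoc, hs]
    exact (congrArg CommaMorphism.left (hσ i)).trans (Category.assoc _ _ _)
  haveI := NoriFGS13.effectiveEpi_snd ha Z
  haveI : Flat (P ⊗ (P ⊗ Z)).hom := inferInstanceAs (Flat (pullback.fst P.hom (P ⊗ Z).hom ≫ P.hom))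
  have e : lift (fst P (P ⊗ Z)) (snd P (P ⊗ Z) ≫ snd P Z) ≫ σ₀ = snd P (P ⊗ Z) ≫ σ₀ :=
    eq_of_push_eq hlam ha.1 hb hφ (by
      rw [Category.assoc, Category.assoc, hσ₀, lift_snd_assoc, Category.assoc])
  obtain ⟨τ, -, -⟩ := TorsorDesc.existsUnique_desc (snd P Z) σ₀ fun T x₁ x₂ hx => by
    have h1 : x₁ = lift (x₁ ≫ fst P Z) x₂ ≫ lift (fst P (P ⊗ Z)) (snd P (P ⊗ Z) ≫ snd P Z) := by
      rw [comp_lift, lift_fst, lift_snd_assoc]
      apply CartesianMonoidalCategory.hom_ext
      · rw [lift_fst]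
      · rw [lift_snd, hx]
    have h2 : x₂ = lift (x₁ ≫ fst P Z) x₂ ≫ snd P (P ⊗ Z) := (lift_snd _ _).symm
    rw [h1, Category.assoc, e, ← Category.assoc, ← h2]
  exact ⟨τ⟩

/-- The transition element along an object where the parameter vanishes. -/
theorem exists_transition (ha : NonAbH1.IsTorsorFor Scheme.fpqcPrecoverage a) (hb : NonAbH1.IsPseudoTorsorSch b)
    (hφ : AlgGrp.Action.IsEquivariant a (b.restrict αX) φ) {Z : Over X} (hZ : lamT f lam Z = 0) (q : Z ⟶ Q) :
    ∃ δ₀ : Z ⟶ Red.bc f (Red.diag R ℤ), ∀ (T : Over X) (h : T ⟶ Z) (p : T ⟶ P),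
      p ≫ φ = lift (h ≫ δ₀) (h ≫ q) ≫ b.act := by
  haveI := NoriFGS13.effectiveEpi_snd ha Z
  obtain ⟨δ, hδ⟩ := TorsorDesc.exists_act_eq hb (fst P Z ≫ φ) (snd P Z ≫ q)
  have h1 : ∀ (T : Over X) (x : T ⟶ P ⊗ Z),
      lift (x ≫ δ) ((x ≫ snd P Z) ≫ q) ≫ b.act = (x ≫ fst P Z) ≫ φ := fun T x => by
    rw [Category.assoc, ← comp_lift_assoc, hδ, Category.assoc]
  obtain ⟨δ₀, hδ₀, -⟩ := TorsorDesc.existsUnique_desc (snd P Z) δ fun T x₁ x₂ e => by
    have hT : lamT f lam T = 0 := by rw [← lamT_precomp f (x₁ ≫ snd P Z), hZ, map_zero]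
    refine TorsorDesc.act_left_injective hb (p := (x₁ ≫ snd P Z) ≫ q) ?_
    rw [h1]
    conv_rhs => rw [e, h1]
    exact push_eq_of_lamT_eq_zero ha.1 hφ hT _ _
  refine ⟨δ₀, fun T h p => ?_⟩
  have h2 : lift (lift p h ≫ δ) ((lift p h ≫ snd P Z) ≫ q) ≫ b.act = (lift p h ≫ fst P Z) ≫ φ := h1 T _
  rw [lift_snd, lift_fst, ← hδ₀, lift_snd_assoc] at h2
  exact h2.symm

/-- Criterion for triviality: units lift and the push forward is trivial. -/
theorem hasSection_of_units [IsDomain R] (hlam : lam ≠ 0) [Flat f]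
    [IsNoetherianRing R] (hunit : Function.Surjective (Units.map
      (pullback.fst f (Spec.map (CommRingCat.ofHom (Ideal.Quotient.mk (Ideal.span ({lam} : Set R)))))).appTop.hom.toMonoidHom))
    (hpic : ∀ (Q : Over X) (b : AlgGrp.Action (Red.bc f (Red.diag R ℤ)) Q),
      NonAbH1.IsTorsorFor Scheme.fppfPrecoverage b → NonAbH1.HasSectionOver Q (𝟙 X))
    {P : Over X} {a : AlgGrp.Action (Red.bc f (SekSuwa.G R lam)) P}
    (ha : NonAbH1.IsTorsorFor Scheme.fpqcPrecoverage a) :
    NonAbH1.HasSectionOver P (𝟙 X) := by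
  let D := Red.bc f (Red.diag R ℤ)
  have hd2 : Flat (Red.diag R ℤ).hom := by
    show Flat (Spec.map (CommRingCat.ofHom (algebraMap R (MonoidAlgebra R (Multiplicative ℤ)))))
    rw [HasRingHomProperty.Spec_iff (P := @Flat)]
    exact RingHom.flat_algebraMap_iff.mpr inferInstance
  have hd3 : LocallyOfFinitePresentation (Red.diag R ℤ).hom := lfp_diag R
  haveI : Flat D.hom :=
    MorphismProperty.of_isPullback (P := (@Flat : MorphismProperty Scheme.{u})) (IsPullback.of_hasPullback _ f) hd2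
  haveI : LocallyOfFinitePresentation D.hom :=
    MorphismProperty.of_isPullback (P := (@LocallyOfFinitePresentation : MorphismProperty Scheme.{u}))
      (IsPullback.of_hasPullback _ f) hd3
  haveI : IsAffineHom D.hom :=
    MorphismProperty.of_isPullback (P := (@IsAffineHom : MorphismProperty Scheme.{u})) (IsPullback.of_hasPullback _ f)
      (inferInstanceAs (IsAffineHom (Spec.map (CommRingCat.ofHom (algebraMap R (MonoidAlgebra R (Multiplicative ℤ)))))))
  obtain ⟨Q, b, hb, φ, hφ⟩ := FpqcRep.exists_pushforward αX a ha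
  have hφ' : AlgGrp.Action.IsEquivariant a (b.restrict αX) φ := isEquivariant_of_points fun T g x => by
    rw [Category.assoc, hφ, comp_lift_assoc, lift_fst_assoc, lift_snd_assoc]
  obtain ⟨q₁', hq₁'⟩ := hpic Q b (Groth.Agent.S12837.result D Q b hb)
  let q₁ : 𝟙_ (Over X) ⟶ Q := Over.homMk q₁' hq₁'
  let ι₀ := Spec.map (CommRingCat.ofHom (Ideal.Quotient.mk (Ideal.span ({lam} : Set R))))
  let Xl : Over X := Over.mk (pullback.fst f ι₀)
  have hXl : lamT f lam Xl = 0 := by
    show ((pullback.fst f ι₀ ≫ f).appTop).hom ((Scheme.ΓSpecIso (CommRingCat.of R)).inv lam) = 0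
    rw [pullback.condition, Scheme.Hom.comp_appTop]
    show (pullback.snd f ι₀).appTop (((Scheme.ΓSpecIso (CommRingCat.of R)).inv ≫ ι₀.appTop) lam) = 0
    rw [← Scheme.ΓSpecIso_inv_naturality]
    show (pullback.snd f ι₀).appTop ((Scheme.ΓSpecIso _).inv (Ideal.Quotient.mk (Ideal.span ({lam} : Set R)) lam)) = 0
    rw [Ideal.Quotient.eq_zero_iff_mem.2 (Ideal.mem_span_singleton_self _), map_zero, map_zero]
  obtain ⟨δ₀, hδ₀⟩ := exists_transition ha hb.1 hφ' hXl (toUnit Xl ≫ q₁)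
  obtain ⟨v, hv⟩ := hunit (isUnit_val (toB f δ₀)).unit
  obtain ⟨δ₁, hδ₁⟩ := exists_vf (f := f) (T := 𝟙_ (Over X)) (v := (v : Γ(X, ⊤))) v.isUnit
  have hres : toUnit Xl ≫ δ₁ = δ₀ := by
    refine vf_injective ?_
    rw [vf_precomp, hδ₁]
    have : (toUnit Xl).left = pullback.fst f ι₀ := (Category.comp_id _).symm.trans (Over.w (toUnit Xl))
    rw [this]
    exact congrArg Units.val hv
  haveI : Flat (𝟙_ (Over X)).hom := inferInstanceAs (Flat (𝟙 X))
  obtain ⟨τ⟩ := exists_lift_of_section hlam ha hb.1 hφ' (𝟙_ (Over X)) (lift δ₁ q₁ ≫ b.act) fun T h₁ p hT => by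
    obtain ⟨w, -⟩ := exists_ptRing (B := R ⧸ Ideal.span ({lam} : Set R)) (T := (Over.map f).obj T)
      (Ideal.Quotient.lift _ (strR ((Over.map f).obj T)) (fun r hr => by
        obtain ⟨c, rfl⟩ := Ideal.mem_span_singleton'.1 hr
        rw [map_mul, show strR ((Over.map f).obj T) lam = 0 from hT, MulZeroClass.mul_zero]))
      (Ideal.Quotient.lift_comp_mk _ _ _)
    let h : T ⟶ Xl := Over.homMk (pullback.lift T.hom w.left (Over.w w).symm) (pullback.lift_fst _ _ _)
    rw [hδ₀ T h p, ← hres, comp_lift_assoc, toUnit_unique h₁ (toUnit T), ← Category.assoc h, ← Category.assoc h,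
      toUnit_unique (h ≫ toUnit Xl) (toUnit T)]
  exact ⟨τ.left, Over.w τ⟩

end GrothLib.SekG13
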