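import Groth.Agent.Lib.SekG13.Core
import Groth.Agent.Lib.CartTorsor.Gauge
import Mathlib.AlgebraicGeometry.AffineScheme

/-!
# Torsors under the multiplicative group have sections near every point
-/

set_option autoImplicit false
set_option backward.isDefEq.respectTransparency false
set_option backward.isDefEq.respectTransparency.types false

universe u

open CategoryTheory CategoryTheory.Limits AlgebraicGeometry MonoidalCategory CartesianMonoidalCategory MonObj
open scoped TensorProduct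

namespace GrothLib.SekG13

open NoriFGS13 SekGen13

/-- A function is invertible on its basic open. -/
theorem isUnit_ι_appTop (S : Scheme.{u}) (f : Γ(S, ⊤)) : IsUnit ((S.basicOpen f).ι.appTop f) := by
  rw [Scheme.Opens.ι_appTop]
  have hle : (S.basicOpen f).ι ''ᵁ ⊤ ≤ S.basicOpen f := by simp
  have h := (S.toRingedSpace.isUnit_res_basicOpen f).map (S.presheaf.map (homOfLE hle).op).hom
  rw [show (homOfLE (le_top : (S.basicOpen f).ι ''ᵁ ⊤ ≤ ⊤)).op =
    (homOfLE (S.basicOpen_le f)).op ≫ (homOfLE hle).op from rfl, Functor.map_comp]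
  exact h

/-- The map to a spectrum given by a ring map into the global functions. -/
noncomputable def toSpecOf {S : Scheme.{u}} {A : Type u} [CommRing A] (χ : A →+* Γ(S, ⊤)) :
    S ⟶ Spec (CommRingCat.of A) :=
  S.toSpecΓ ≫ Spec.map (CommRingCat.ofHom χ)

theorem toSpecOf_appTop {S : Scheme.{u}} {A : Type u} [CommRing A] (χ : A →+* Γ(S, ⊤)) (a : A) :
    (toSpecOf χ).appTop ((Scheme.ΓSpecIso (CommRingCat.of A)).inv a) = χ a := by
  show ((Scheme.ΓSpecIso (CommRingCat.of A)).inv ≫ (toSpecOf χ).appTop) a = χ a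
  rw [toSpecOf, Scheme.Hom.comp_appTop, ← Category.assoc, ← Scheme.ΓSpecIso_inv_naturality, Category.assoc,
    Scheme.toSpecΓ_appTop]
  erw [Iso.inv_hom_id, Category.comp_id]
  rfl

/-- Maps into an affine scheme through its ring of functions. -/
theorem eq_toSpecΓ_comp {S T : Scheme.{u}} [IsAffine T] (g : S ⟶ T) :
    S.toSpecΓ ≫ Spec.map g.appTop ≫ T.isoSpec.inv = g := by
  rw [← Category.assoc, ← Scheme.toSpecΓ_naturality, Category.assoc,
    show T.toSpecΓ = T.isoSpec.hom from rfl, Iso.hom_inv_id, Category.comp_id]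

variable {R : Type u} [CommRing R] {X : Scheme.{u}} {f : X ⟶ Spec (CommRingCat.of R)}

section Points

variable {V : Over X} [IsAffine V.left]

/-- The spectrum of an algebra over the functions on an affine object. -/
noncomputable abbrev sp (V : Over X) [IsAffine V.left] (A : Type u) [CommRing A] [Algebra Γ(V.left, ⊤) A] : Over X :=
  Over.mk (Spec.map (CommRingCat.ofHom (algebraMap Γ(V.left, ⊤) A)) ≫ V.left.isoSpec.inv ≫ V.hom)

theorem exists_pr {E : Over X} [IsAffine E.left] (e : E ⟶ V) [Algebra Γ(V.left, ⊤) Γ(E.left, ⊤)]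
    (he : algebraMap Γ(V.left, ⊤) Γ(E.left, ⊤) = e.left.appTop.hom) {A : Type u} [CommRing A]
    [Algebra Γ(V.left, ⊤) A] (φ : Γ(E.left, ⊤) →ₐ[Γ(V.left, ⊤)] A) :
    ∃ y : sp V A ⟶ E, y.left = Spec.map (CommRingCat.ofHom φ.toRingHom) ≫ E.left.isoSpec.inv ∧
      (∀ c, y.left.appTop c = (Scheme.ΓSpecIso (CommRingCat.of A)).inv (φ c)) ∧
      y.left ≫ e.left = Spec.map (CommRingCat.ofHom (algebraMap Γ(V.left, ⊤) A)) ≫ V.left.isoSpec.inv := by
  have h : (Spec.map (CommRingCat.ofHom φ.toRingHom) ≫ E.left.isoSpec.inv) ≫ e.left =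
      Spec.map (CommRingCat.ofHom (algebraMap Γ(V.left, ⊤) A)) ≫ V.left.isoSpec.inv := by
    rw [Category.assoc, ← Scheme.isoSpec_inv_naturality, ← Category.assoc, ← Spec.map_comp]
    congr 2
    refine CommRingCat.hom_ext (RingHom.ext fun z => ?_)
    show φ (e.left.appTop.hom z) = _
    rw [← he]
    exact φ.commutes z
  refine ⟨Over.homMk (Spec.map (CommRingCat.ofHom φ.toRingHom) ≫ E.left.isoSpec.inv) ?_, rfl, fun c => ?_, h⟩
  · show _ ≫ E.hom = _
    rw [← Over.w e, ← Category.assoc, h, Category.assoc]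
    rfl
  · show (Spec.map (CommRingCat.ofHom φ.toRingHom) ≫ E.left.isoSpec.inv).appTop c = _
    have e1 : Spec.map (CommRingCat.ofHom φ.toRingHom) ≫ E.left.isoSpec.inv =
        (Spec (CommRingCat.of A)).toSpecΓ ≫
          Spec.map (Spec.map (CommRingCat.ofHom φ.toRingHom) ≫ E.left.isoSpec.inv).appTop ≫ E.left.isoSpec.inv :=
      (eq_toSpecΓ_comp _).symm
    have e2 : (Spec (CommRingCat.of A)).toSpecΓ = Spec.map (Scheme.ΓSpecIso (CommRingCat.of A)).hom := by
      simp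
    rw [e2, ← Category.assoc, ← Spec.map_comp] at e1
    have e3 := Spec.map_injective ((cancel_mono E.left.isoSpec.inv).1 e1)
    have e4 : (CommRingCat.ofHom φ.toRingHom ≫ (Scheme.ΓSpecIso (CommRingCat.of A)).inv) =
        (Spec.map (CommRingCat.ofHom φ.toRingHom) ≫ E.left.isoSpec.inv).appTop := by
      rw [← cancel_mono (Scheme.ΓSpecIso (CommRingCat.of A)).hom]
      simpa using e3
    exact (DFunLike.congr_fun (congrArg CommRingCat.Hom.hom e4) c).symm

end Points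

/-- Translating by the inverse of a gauge removes the transition. -/
theorem comp_gauge_eq {S : Scheme.{u}} {G Q A : Over S} [GrpObj G] (b : AlgGrp.Action G Q) (m : A ⟶ G) (q : A ⟶ Q)
    {T : Over S} (x₁ x₂ : T ⟶ A) (δ : T ⟶ G) (hm : x₁ ≫ m = δ * (x₂ ≫ m))
    (hδ : lift δ (x₂ ≫ q) ≫ b.act = x₁ ≫ q) :
    x₁ ≫ lift m⁻¹ q ≫ b.act = x₂ ≫ lift m⁻¹ q ≫ b.act := by
  rw [comp_lift_assoc, comp_lift_assoc, GrpObj.comp_inv, GrpObj.comp_inv, hm, ← hδ, ← b.lift_mul_act,
    _root_.mul_inv_rev, inv_mul_cancel_right]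

/-- A torsor under the multiplicative group has a section on an affine open neighbourhood of every point. -/
theorem exists_gm_nbhd [IsNoetherianRing R] {Q : Over X} {b : AlgGrp.Action (Red.bc f (Red.diag R ℤ)) Q}
    (hb : NonAbH1.IsTorsorFor Scheme.fpqcPrecoverage b) (V : Over X) [IsAffine V.left] (v : V.left) :
    ∃ (W : Over X) (w : W ⟶ V), IsAffine W.left ∧ IsOpenImmersion w.left ∧ v ∈ Set.range w.left ∧
      Nonempty (W ⟶ Q) := by
  let D := Red.bc f (Red.diag R ℤ)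
  have hd2 : Flat (Red.diag R ℤ).hom := by
    show Flat (Spec.map (CommRingCat.ofHom (algebraMap R (MonoidAlgebra R (Multiplicative ℤ)))))
    rw [HasRingHomProperty.Spec_iff (P := @Flat)]
    exact RingHom.flat_algebraMap_iff.mpr inferInstance
  have hDfl : Flat D.hom :=
    MorphismProperty.of_isPullback (P := (@Flat : MorphismProperty Scheme.{u})) (IsPullback.of_hasPullback _ f) hd2
  have hDaff : IsAffineHom D.hom :=
    MorphismProperty.of_isPullback (P := (@IsAffineHom : MorphismProperty Scheme.{u})) (IsPullback.of_hasPullback _ f)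
      (inferInstanceAs (IsAffineHom (Spec.map (CommRingCat.ofHom (algebraMap R (MonoidAlgebra R (Multiplicative ℤ)))))))
  haveI := HasRingHomProperty.descendsAlong_flat (P := @Flat) GrothLib.AlgSp.codescendsAlong_flat
  haveI : Flat Q.hom := Torsor21.property @Flat hb hDfl
  haveI : IsAffineHom Q.hom := Torsor21.property @IsAffineHom hb hDaff
  haveI := Torsor21.surjective_hom hb
  let E : Over X := Q ⊗ V
  let e : E ⟶ V := snd Q V
  haveI : Flat e.left := inferInstanceAs (Flat (pullback.snd Q.hom V.hom))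
  haveI : Surjective e.left := inferInstanceAs (Surjective (pullback.snd Q.hom V.hom))
  haveI : IsAffineHom (pullback.snd Q.hom V.hom) :=
    MorphismProperty.pullback_snd (P := @IsAffineHom) Q.hom V.hom ‹IsAffineHom Q.hom›
  haveI : IsAffine E.left := isAffine_of_isAffineHom (pullback.snd Q.hom V.hom)
  letI : Algebra Γ(V.left, ⊤) Γ(E.left, ⊤) := e.left.appTop.hom.toAlgebra
  haveI : Module.FaithfullyFlat Γ(V.left, ⊤) Γ(E.left, ⊤) := by
    haveI : Module.Flat Γ(V.left, ⊤) Γ(E.left, ⊤) :=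
      (HasRingHomProperty.iff_of_isAffine (P := @Flat) (f := e.left)).mp inferInstance
    have : Surjective (Spec.map e.left.appTop) := by
      rw [show Spec.map e.left.appTop = E.left.isoSpec.inv ≫ e.left ≫ V.left.isoSpec.hom by
        rw [← Category.assoc, ← Scheme.isoSpec_inv_naturality, Category.assoc, Iso.inv_hom_id, Category.comp_id]]
      infer_instance
    exact Module.FaithfullyFlat.of_comap_surjective this.surj
  let B := Γ(V.left, ⊤)
  let C := Γ(E.left, ⊤)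
  -- the transition function
  obtain ⟨π₁, hπ₁, hπ₁', hπ₁e⟩ := exists_pr e rfl
    (Algebra.TensorProduct.includeLeft : C →ₐ[B] C ⊗[B] C)
  obtain ⟨π₂, hπ₂, hπ₂', hπ₂e⟩ := exists_pr e rfl
    (Algebra.TensorProduct.includeRight : C →ₐ[B] C ⊗[B] C)
  obtain ⟨δ₂, hδ₂⟩ := TorsorDesc.exists_act_eq hb.1 (π₁ ≫ fst Q V) (π₂ ≫ fst Q V)
  let θ : C ⊗[B] C := (Scheme.ΓSpecIso (CommRingCat.of (C ⊗[B] C))).hom (vf δ₂)
  have hθu : IsUnit θ := (isUnit_val (toB f δ₂)).map (Scheme.ΓSpecIso (CommRingCat.of (C ⊗[B] C))).hom.hom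
  have key : ∀ (T : Over X) (y₁ y₂ : T ⟶ E) (χ : C ⊗[B] C →+* Γ(T.left, ⊤)) (δ : T ⟶ D),
      (∀ c : C, χ (c ⊗ₜ 1) = y₁.left.appTop c) → (∀ c : C, χ (1 ⊗ₜ c) = y₂.left.appTop c) →
      lift δ (y₂ ≫ fst Q V) ≫ b.act = y₁ ≫ fst Q V → vf δ = χ θ := by
    intro T y₁ y₂ χ δ h1 h2 hδ
    have hl : ∀ {y : T ⟶ E} {i : C →ₐ[B] C ⊗[B] C}, (∀ c : C, χ (i c) = y.left.appTop c) →
        toSpecOf χ ≫ Spec.map (CommRingCat.ofHom i.toRingHom) ≫ E.left.isoSpec.inv = y.left := by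
      intro y i h
      rw [toSpecOf, Category.assoc, ← Spec.map_comp_assoc]
      have : CommRingCat.ofHom i.toRingHom ≫ CommRingCat.ofHom χ = y.left.appTop :=
        CommRingCat.hom_ext (RingHom.ext fun c => h c)
      rw [this, eq_toSpecΓ_comp]
    have l1 : toSpecOf χ ≫ π₁.left = y₁.left := by rw [hπ₁]; exact hl h1
    have l2 : toSpecOf χ ≫ π₂.left = y₂.left := by rw [hπ₂]; exact hl h2
    let t : T ⟶ sp V (C ⊗[B] C) := Over.homMk (toSpecOf χ) (by rw [← Over.w π₁, ← Category.assoc, l1, Over.w])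
    have e1 : t ≫ π₁ = y₁ := Over.OverMorphism.ext l1
    have e2 : t ≫ π₂ = y₂ := Over.OverMorphism.ext l2
    have hd : t ≫ δ₂ = δ := by
      refine TorsorDesc.act_left_injective hb.1 (p := y₂ ≫ fst Q V) ?_
      rw [hδ, ← e2, Category.assoc, ← comp_lift_assoc, hδ₂, ← Category.assoc, e1]
    rw [← hd, vf_precomp]
    refine Eq.trans ?_ (toSpecOf_appTop χ θ)
    show (toSpecOf χ).appTop (vf δ₂) = _
    congr 1
    exact ((Scheme.ΓSpecIso (CommRingCat.of (C ⊗[B] C))).hom_inv_id_apply _).symm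
  -- cocycle
  let C₃ := C ⊗[B] (C ⊗[B] C)
  let d₁₂ := CartTorsor.d12 B C
  let d₁₃ := CartTorsor.d13 B C
  let d₂₃ := CartTorsor.d23 B C
  let i₁ : C →ₐ[B] C ⊗[B] C := Algebra.TensorProduct.includeLeft
  let i₂ : C →ₐ[B] C ⊗[B] C := Algebra.TensorProduct.includeRight
  obtain ⟨z₁, -, hz₁, hz₁e⟩ := exists_pr e rfl (d₁₂.comp i₁)
  obtain ⟨z₂, -, hz₂, hz₂e⟩ := exists_pr e rfl (d₁₂.comp i₂)
  obtain ⟨z₃, -, hz₃, hz₃e⟩ := exists_pr e rfl (d₁₃.comp i₂)
  obtain ⟨δa, hδa⟩ := TorsorDesc.exists_act_eq hb.1 (z₁ ≫ fst Q V) (z₂ ≫ fst Q V)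
  obtain ⟨δb, hδb⟩ := TorsorDesc.exists_act_eq hb.1 (z₂ ≫ fst Q V) (z₃ ≫ fst Q V)
  have hδc : lift (δa * δb) (z₃ ≫ fst Q V) ≫ b.act = z₁ ≫ fst Q V :=
    (b.lift_mul_act δa δb (z₃ ≫ fst Q V)).trans ((congrArg (fun t => lift δa t ≫ b.act) hδb).trans hδa)
  let ω := (Scheme.ΓSpecIso (CommRingCat.of C₃)).inv.hom
  have k12 := key _ z₁ z₂ (ω.comp d₁₂.toRingHom) δa (fun c => (hz₁ c).symm) (fun c => (hz₂ c).symm) hδa
  have k23 := key _ z₂ z₃ (ω.comp d₂₃.toRingHom) δb
    (fun c => by rw [hz₂]; show ω (d₂₃ (c ⊗ₜ 1)) = ω (d₁₂ (1 ⊗ₜ c)); simp [d₂₃, d₁₂])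
    (fun c => by rw [hz₃]; show ω (d₂₃ (1 ⊗ₜ c)) = ω (d₁₃ (1 ⊗ₜ c)); simp [d₂₃, d₁₃]) hδb
  have k13 := key _ z₁ z₃ (ω.comp d₁₃.toRingHom) (δa * δb)
    (fun c => by rw [hz₁]; show ω (d₁₃ (c ⊗ₜ 1)) = ω (d₁₂ (c ⊗ₜ 1)); simp [d₁₃, d₁₂, Algebra.TensorProduct.one_def])
    (fun c => (hz₃ c).symm) hδc
  rw [vf_mul, k12, k23] at k13
  have hcoc : d₁₃ θ = d₁₂ θ * d₂₃ θ :=
    (ConcreteCategory.bijective_of_isIso (Scheme.ΓSpecIso (CommRingCat.of C₃)).inv).1
      ((k13.symm).trans (map_mul ω _ _).symm)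
  -- the gauge
  obtain ⟨g, M, N, hg, hMN, hM⟩ := CartTorsor.exists_gauge (R := B) (A := C) (n := 1)
    (Matrix.of fun _ _ : Fin 1 => θ) (Matrix.of fun _ _ : Fin 1 => (↑hθu.unit⁻¹ : C ⊗[B] C))
    (by ext i j; fin_cases i; fin_cases j; simp [Matrix.mul_apply])
    (by ext i j; simp [Matrix.mul_apply]; exact hcoc)
    (V.left.isoSpec.hom v).asIdeal
  let x : C := M 0 0
  have hxy : x * N 0 0 = algebraMap B C g := by
    have := congrArg (fun m : Matrix (Fin 1) (Fin 1) C => m 0 0) hMN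
    simpa [Matrix.mul_apply, Algebra.algebraMap_eq_smul_one, x] using this
  have hx : x ⊗ₜ[B] (1 : C) = θ * ((1 : C) ⊗ₜ[B] x) := by
    have := congrArg (fun m : Matrix (Fin 1) (Fin 1) (C ⊗[B] C) => m 0 0) hM
    simpa [Matrix.mul_apply, x] using this
  let W : Over X := Over.mk ((V.left.basicOpen g).ι ≫ V.hom)
  let w : W ⟶ V := Over.homMk (V.left.basicOpen g).ι rfl
  refine ⟨W, w, (isAffineOpen_top V.left).basicOpen g, inferInstanceAs (IsOpenImmersion (V.left.basicOpen g).ι),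
    ⟨⟨v, ?_⟩, rfl⟩, ?_⟩
  · show v ∈ V.left.basicOpen g
    rw [← Scheme.toSpecΓ_preimage_basicOpen]
    exact hg
  let z : Q ⊗ W ⟶ E := lift (fst Q W) (snd Q W ≫ w)
  have hzf : z ≫ fst Q V = fst Q W := lift_fst _ _
  have hu : IsUnit (z.left.appTop x) := by
    refine isUnit_of_mul_isUnit_left (y := z.left.appTop (N 0 0)) ?_
    rw [← map_mul, hxy]
    show IsUnit ((e.left.appTop ≫ z.left.appTop) g)
    rw [← Scheme.Hom.comp_appTop, show z.left ≫ e.left = (snd Q W).left ≫ w.left from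
      congrArg CommaMorphism.left (lift_snd (fst Q W) (snd Q W ≫ w) : z ≫ e = snd Q W ≫ w), Scheme.Hom.comp_appTop]
    exact (isUnit_ι_appTop _ g).map (snd Q W).left.appTop.hom
  obtain ⟨m, hm⟩ := exists_vf (f := f) hu
  haveI := NoriFGS13.effectiveEpi_snd hb W
  obtain ⟨q, -, -⟩ := TorsorDesc.existsUnique_desc (snd Q W) (lift m⁻¹ (fst Q W) ≫ b.act) fun T x₁ x₂ hxx => by
    have hye : (x₁ ≫ z) ≫ e = (x₂ ≫ z) ≫ e := by
      simp only [Category.assoc, e, z, lift_snd]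
      rw [← Category.assoc, hxx, Category.assoc]
    obtain ⟨δ, hδ⟩ := TorsorDesc.exists_act_eq hb.1 ((x₁ ≫ z) ≫ fst Q V) ((x₂ ≫ z) ≫ fst Q V)
    letI : Algebra B Γ(T.left, ⊤) := ((x₁ ≫ z) ≫ e).left.appTop.hom.toAlgebra
    let a₁ : C →ₐ[B] Γ(T.left, ⊤) :=
      { (x₁ ≫ z).left.appTop.hom with
        commutes' := fun r => by
          show (e.left.appTop ≫ (x₁ ≫ z).left.appTop) r = _
          rw [← Scheme.Hom.comp_appTop]; rfl }
    let a₂ : C →ₐ[B] Γ(T.left, ⊤) :=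
      { (x₂ ≫ z).left.appTop.hom with
        commutes' := fun r => by
          show (e.left.appTop ≫ (x₂ ≫ z).left.appTop) r = _
          rw [← Scheme.Hom.comp_appTop]
          show ((x₂ ≫ z) ≫ e).left.appTop r = _
          rw [← hye]; rfl }
    let χ := (Algebra.TensorProduct.lift a₁ a₂ fun _ _ => Commute.all _ _).toRingHom
    have k := key T (x₁ ≫ z) (x₂ ≫ z) χ δ (fun c => by simp [χ, a₁] <;> rfl) (fun c => by simp [χ, a₂] <;> rfl) hδ
    have hm12 : x₁ ≫ m = δ * (x₂ ≫ m) := by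
      refine vf_injective ?_
      rw [vf_mul, vf_precomp, vf_precomp, hm, k]
      have h3 := congrArg χ hx
      rw [map_mul] at h3
      have hl : χ (x ⊗ₜ[B] (1 : C)) = x₁.left.appTop (z.left.appTop x) := by simp [χ, a₁] <;> rfl
      have hr : χ ((1 : C) ⊗ₜ[B] x) = x₂.left.appTop (z.left.appTop x) := by simp [χ, a₂] <;> rfl
      rw [hl, hr] at h3
      exact h3
    rw [Category.assoc, Category.assoc, hzf] at hδ
    exact comp_gauge_eq b m (fst Q W) x₁ x₂ δ hm12 hδ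
  exact ⟨q⟩

end GrothLib.SekG13
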