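import Groth.Agent.Lib.SekG13.Gm
import Groth.Agent.Lib.CartTorsor.Factor

/-!
# Torsors under the one-parameter groups are trivial near every point
-/

set_option autoImplicit false
set_option backward.isDefEq.respectTransparency false
set_option backward.isDefEq.respectTransparency.types false

universe u

open CategoryTheory CategoryTheory.Limits AlgebraicGeometry MonoidalCategory CartesianMonoidalCategory MonObj

namespace GrothLib.SekG13

open NoriFGS13 SekGen13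

variable {R : Type u} [CommRing R] {lam : R} {X : Scheme.{u}} (f : X ⟶ Spec (CommRingCat.of R))

/-- The closed subobject of an affine object where the parameter vanishes. -/
theorem exists_vanishing (lam : R) (T : Over X) [IsAffine T.left] :
    ∃ (T₀ : Over X) (h₀ : T₀ ⟶ T), lamT f lam T₀ = 0 ∧ Function.Surjective h₀.left.appTop ∧
      (∀ x, h₀.left.appTop x = 0 → x ∈ Ideal.span {lamT f lam T}) ∧
      ∀ (T' : Over X) (h : T' ⟶ T), lamT f lam T' = 0 → ∃ h' : T' ⟶ T₀, h' ≫ h₀ = h := by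
  let I : Ideal Γ(T.left, ⊤) := Ideal.span {lamT f lam T}
  let g : Spec (CommRingCat.of (Γ(T.left, ⊤) ⧸ I)) ⟶ T.left :=
    Spec.map (CommRingCat.ofHom (Ideal.Quotient.mk I)) ≫ T.left.isoSpec.inv
  let e := (Scheme.ΓSpecIso (CommRingCat.of (Γ(T.left, ⊤) ⧸ I))).inv
  have hg : ∀ x : Γ(T.left, ⊤), g.appTop x = e (Ideal.Quotient.mk I x) := by
    intro x
    have e1 := (eq_toSpecΓ_comp g).symm
    rw [show (Spec (CommRingCat.of (Γ(T.left, ⊤) ⧸ I))).toSpecΓ =
      Spec.map (Scheme.ΓSpecIso (CommRingCat.of (Γ(T.left, ⊤) ⧸ I))).hom by simp, ← Category.assoc, ← Spec.map_comp] at e1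
    have e3 := Spec.map_injective ((cancel_mono T.left.isoSpec.inv).1 e1)
    have e4 : CommRingCat.ofHom (Ideal.Quotient.mk I) ≫ e = g.appTop := by
      rw [← cancel_mono (Scheme.ΓSpecIso (CommRingCat.of (Γ(T.left, ⊤) ⧸ I))).hom]
      simpa [e] using e3
    exact (DFunLike.congr_fun (congrArg CommRingCat.Hom.hom e4) x).symm
  have he : Function.Bijective e := ConcreteCategory.bijective_of_isIso e
  let T₀ : Over X := Over.mk (g ≫ T.hom)
  let h₀ : T₀ ⟶ T := Over.homMk g rfl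
  refine ⟨T₀, h₀, ?_, fun y => ?_, fun x hx => ?_, fun T' h hT' => ?_⟩
  · rw [← lamT_precomp f h₀]
    show g.appTop (lamT f lam T) = 0
    rw [hg, Ideal.Quotient.eq_zero_iff_mem.2 (Ideal.mem_span_singleton_self _), map_zero]
  · obtain ⟨z, rfl⟩ := he.2 y
    obtain ⟨x, rfl⟩ := Ideal.Quotient.mk_surjective z
    exact ⟨x, hg x⟩
  · refine Ideal.Quotient.eq_zero_iff_mem.1 (he.1 ?_)
    rw [map_zero, ← hg]; exact hx
  · let χ : (Γ(T.left, ⊤) ⧸ I) →+* Γ(T'.left, ⊤) := Ideal.Quotient.lift I h.left.appTop.hom fun x hx => by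
      obtain ⟨c, rfl⟩ := Ideal.mem_span_singleton'.1 hx
      rw [map_mul, show h.left.appTop.hom (lamT f lam T) = 0 from (lamT_precomp f h).trans hT', MulZeroClass.mul_zero]
    have hl : toSpecOf χ ≫ g = h.left := by
      rw [toSpecOf, Category.assoc, ← Category.assoc (Spec.map _), ← Spec.map_comp]
      rw [show CommRingCat.ofHom (Ideal.Quotient.mk I) ≫ CommRingCat.ofHom χ = h.left.appTop from rfl, eq_toSpecΓ_comp]
    exact ⟨Over.homMk (toSpecOf χ) (by show _ ≫ g ≫ T.hom = _; rw [← Category.assoc, hl, Over.w]),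
      Over.OverMorphism.ext hl⟩

/-- A torsor under the one-parameter group has a section near every point. -/
theorem exists_section_nbhd [IsDomain R] [IsNoetherianRing R] (hlam : lam ≠ 0) [Flat f]
    {P : Over X} {a : AlgGrp.Action (Red.bc f (SekSuwa.G R lam)) P}
    (ha : NonAbH1.IsTorsorFor Scheme.fpqcPrecoverage a) (x : X) :
    ∃ (U : X.Opens) (s : (U : Scheme.{u}) ⟶ P.left), x ∈ U ∧ s ≫ P.hom = U.ι := by
  obtain ⟨U, hU, hxU, -⟩ := exists_isAffineOpen_mem_and_subset (x := x) (U := ⊤) trivial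
  let V : Over X := Over.mk U.ι
  haveI : IsAffine V.left := hU
  haveI : IsOpenImmersion V.hom := inferInstanceAs (IsOpenImmersion U.ι)
  have hd2 : Flat (Red.diag R ℤ).hom := by
    show Flat (Spec.map (CommRingCat.ofHom (algebraMap R (MonoidAlgebra R (Multiplicative ℤ)))))
    rw [HasRingHomProperty.Spec_iff (P := @Flat)]
    exact RingHom.flat_algebraMap_iff.mpr inferInstance
  haveI : Flat (Red.bc f (Red.diag R ℤ)).hom :=
    MorphismProperty.of_isPullback (P := (@Flat : MorphismProperty Scheme.{u})) (IsPullback.of_hasPullback _ f) hd2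
  haveI : IsAffineHom (Red.bc f (Red.diag R ℤ)).hom :=
    MorphismProperty.of_isPullback (P := (@IsAffineHom : MorphismProperty Scheme.{u})) (IsPullback.of_hasPullback _ f)
      (inferInstanceAs (IsAffineHom (Spec.map (CommRingCat.ofHom (algebraMap R (MonoidAlgebra R (Multiplicative ℤ)))))))
  obtain ⟨Q, b, hb, φ, hφ⟩ := FpqcRep.exists_pushforward ((Over.pullback f).map (SekSuwa.alpha R lam)) a ha
  have hφ' : AlgGrp.Action.IsEquivariant a (b.restrict ((Over.pullback f).map (SekSuwa.alpha R lam))) φ :=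
    isEquivariant_of_points fun T g x => by
      rw [Category.assoc, hφ, comp_lift_assoc, lift_fst_assoc, lift_snd_assoc]
  obtain ⟨W₁, w₁, _, _, ⟨p₁, hp₁⟩, ⟨q₁⟩⟩ := exists_gm_nbhd hb V ⟨x, hxU⟩
  haveI : IsOpenImmersion W₁.hom := by rw [← Over.w w₁]; infer_instance
  have hx₁ : W₁.hom p₁ = x := by
    rw [← Over.w w₁]
    show V.hom (w₁.left p₁) = x
    rw [hp₁]; rfl
  obtain ⟨T₀, h₀, hT₀, hsurj, hker, hfac⟩ := exists_vanishing f lam W₁
  obtain ⟨δ₀, hδ₀⟩ := exists_transition ha hb.1 hφ' hT₀ (h₀ ≫ q₁)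
  obtain ⟨b₀, hb₀⟩ := hsurj (vf δ₀)
  obtain ⟨c₀, hc₀⟩ := hsurj (isUnit_val (toB f δ₀)).unit⁻¹.val
  let l := lamT f lam W₁
  obtain ⟨d, hd⟩ : ∃ d, d * l = b₀ * c₀ - 1 := Ideal.mem_span_singleton'.1 (hker _ (by
    rw [map_sub, map_mul, map_one, hb₀, hc₀, sub_eq_zero]
    exact (isUnit_val (toB f δ₀)).mul_val_inv))
  obtain ⟨b₁, hb₁, hmem⟩ : ∃ b₁ : Γ(W₁.left, ⊤), h₀.left.appTop b₁ = vf δ₀ ∧ p₁ ∈ W₁.left.basicOpen b₁ := by
    by_cases hin : p₁ ∈ W₁.left.basicOpen b₀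
    · exact ⟨b₀, hb₀, hin⟩
    refine ⟨b₀ + l, by rw [map_add, hb₀, show h₀.left.appTop l = 0 from (lamT_precomp f h₀).trans hT₀, add_zero], ?_⟩
    by_contra hin'
    rw [← Scheme.toSpecΓ_preimage_basicOpen] at hin hin'
    have h1 : b₀ ∈ (W₁.left.toSpecΓ p₁).asIdeal := not_not.1 hin
    have h2 : b₀ + l ∈ (W₁.left.toSpecΓ p₁).asIdeal := not_not.1 hin'
    refine (W₁.left.toSpecΓ p₁).isPrime.ne_top (Ideal.eq_top_of_isUnit_mem _ ?_ (isUnit_one (M := Γ(W₁.left, ⊤))))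
    have h3 : l ∈ (W₁.left.toSpecΓ p₁).asIdeal := by
      have := Ideal.sub_mem _ h2 h1
      rwa [add_sub_cancel_left] at this
    have h4 := Ideal.sub_mem _ (Ideal.mul_mem_right c₀ _ h1) (Ideal.mul_mem_left _ d h3)
    rwa [hd, sub_sub_cancel] at h4
  let Z : Over X := Over.mk ((W₁.left.basicOpen b₁).ι ≫ W₁.hom)
  let k : Z ⟶ W₁ := Over.homMk (W₁.left.basicOpen b₁).ι rfl
  haveI : IsOpenImmersion Z.hom := inferInstanceAs (IsOpenImmersion ((W₁.left.basicOpen b₁).ι ≫ W₁.hom))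
  obtain ⟨δ₁, hδ₁⟩ := exists_vf (f := f) (T := Z) (isUnit_ι_appTop W₁.left b₁)
  obtain ⟨τ⟩ := exists_lift_of_section hlam ha hb.1 hφ' Z (lift δ₁ (k ≫ q₁) ≫ b.act) fun T h p hT => by
    obtain ⟨h', hh'⟩ := hfac T (h ≫ k) hT
    have e : h' ≫ δ₀ = h ≫ δ₁ := by
      refine vf_injective ?_
      rw [vf_precomp, vf_precomp, hδ₁, ← hb₁]
      show (h₀.left.appTop ≫ h'.left.appTop) b₁ = (k.left.appTop ≫ h.left.appTop) b₁
      rw [← Scheme.Hom.comp_appTop, ← Scheme.Hom.comp_appTop, ← Over.comp_left, ← Over.comp_left, hh']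
    rw [hδ₀ T h' p, e, comp_lift_assoc, ← Category.assoc h', hh', Category.assoc h]
  refine ⟨Z.hom.opensRange, Z.hom.isoOpensRange.inv ≫ τ.left, ⟨⟨p₁, hmem⟩, hx₁⟩, ?_⟩
  rw [Category.assoc, Over.w τ, Scheme.Hom.isoOpensRange_inv_comp]

end GrothLib.SekG13
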