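import Groth.Agent.Lib.SekG13.GK
import Groth.Agent.S14693

/-!
# The torsors of the congruence groups over the base
-/

set_option autoImplicit false
set_option backward.isDefEq.respectTransparency false
set_option backward.isDefEq.respectTransparency.types false

universe u

open CategoryTheory CategoryTheory.Limits AlgebraicGeometry MonoidalCategory CartesianMonoidalCategory MonObj

namespace GrothLib.SekG13

open NoriFGS13 SekGen13

variable {R : Type u} [CommRing R]

noncomputable local instance grpGmR {R : Type u} [CommRing R] : GrpObj (Red.diag R ℤ) := inferInstance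

theorem coord_precomp {lam : R} {T T' : Over (Spec (CommRingCat.of R))} (k : T' ⟶ T) (w : T ⟶ SekSuwa.G R lam) :
    coord (k ≫ w) = k.left.appTop (coord w) := by
  simp only [coord, ptRing, RingHom.comp_apply, Over.comp_left, Scheme.Hom.comp_appTop, CommRingCat.comp_apply]

theorem coord_psi {lam : R} {N : ℕ} (h : SekSuwa.DivCond lam N) {T : Over (Spec (CommRingCat.of R))}
    (g : T ⟶ SekSuwa.G R lam) :
    coord (g ≫ SekSuwa.psi R lam N h) = (SekSuwa.psiPoly lam N h).eval₂ (strR T) (coord g) := by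
  rw [coord, SekSuwa.psi, ptRing_specHom, RingHom.comp_apply]
  show ptRing g (SekSuwa.psiHom R lam N h SekSuwa.A.t) = _
  rw [SekSuwa.psiHom_t, SekSuwa.kerGen, Polynomial.aeval_def, Polynomial.hom_eval₂, ptRing_algebraMap]
  rfl

/-- The torsor over the base of a class congruent to one, with its character. -/
theorem exists_model {lam : R} {N : ℕ} (h : SekSuwa.DivCond lam N) (hN : 0 < N) (b r : R)
    (hb : IsUnit (1 + lam ^ N * b)) (hr : IsUnit r) :
    ∃ (Q : Over (Spec (CommRingCat.of R))) (a : AlgGrp.Action (SekSuwa.GK R lam N h) Q) (χ : Q ⟶ Red.diag R ℤ),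
      NonAbH1.IsTorsorFor Scheme.fppfPrecoverage a ∧
      (∀ (T : Over (Spec (CommRingCat.of R))) (γ : T ⟶ SekSuwa.GK R lam N h) (p : T ⟶ Q),
        (lift γ p ≫ a.act) ≫ χ = (γ ≫ SekSuwa.incl R lam N h ≫ SekSuwa.alpha R lam) * (p ≫ χ)) ∧
      ∀ (T : Over (Spec (CommRingCat.of R))) (p : T ⟶ Q), val (p ≫ χ) ^ N = strR T (r ^ N * (1 + lam ^ N * b)) := by
  classical
  set P := SekSuwa.psiPoly lam N h
  have hspec := SekSuwa.psiPoly_spec h
  have hlN : lam ^ N ∈ nonZeroDivisors R := h.pow_nzd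
  have hc : ∀ n, lam ^ N * P.coeff n = ((1 + Polynomial.C lam * Polynomial.X) ^ N - 1 : Polynomial R).coeff n :=
    fun n => by rw [← hspec, Polynomial.coeff_C_mul]
  have hdeg1 : (1 + Polynomial.C lam * Polynomial.X : Polynomial R).natDegree ≤ 1 := by
    rw [add_comm, ← Polynomial.C_1]
    exact Polynomial.natDegree_linear_le
  have hdeg : P.natDegree ≤ N := by
    refine Polynomial.natDegree_le_iff_coeff_eq_zero.mpr fun n hn => ?_
    refine (mem_nonZeroDivisors_iff.mp hlN).1 _ ?_
    rw [hc, Polynomial.coeff_sub, Polynomial.coeff_one, if_neg (by omega : ¬ n = 0), sub_zero]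
    exact Polynomial.coeff_eq_zero_of_natDegree_lt
      ((Polynomial.natDegree_pow_le.trans (Nat.mul_le_mul_left N hdeg1)).trans_lt (by omega))
  have hlead : P.coeff N = 1 := by
    have h1 : lam ^ N * P.coeff N = lam ^ N := by
      rw [hc, Polynomial.coeff_sub, Polynomial.coeff_one, if_neg (by omega : ¬ N = 0), sub_zero]
      have := Polynomial.coeff_pow_of_natDegree_le (m := N) hdeg1
      rw [_root_.mul_one] at this
      rw [this]
      simp [Polynomial.coeff_one]
    rw [← sub_eq_zero]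
    refine (mem_nonZeroDivisors_iff.mp hlN).1 _ ?_
    rw [mul_sub, h1, _root_.mul_one, sub_self]
  let F : Polynomial R := P - Polynomial.C b
  have hF : F.Monic := by
    refine Polynomial.monic_of_natDegree_le_of_coeff_eq_one N ?_ ?_
    · exact (Polynomial.natDegree_sub_le _ _).trans (max_le hdeg (by simp))
    · rw [Polynomial.coeff_sub, hlead, Polynomial.coeff_C, if_neg (by omega : ¬ N = 0), sub_zero]
  have hFdeg : F.natDegree ≠ 0 ∨ Subsingleton R := by
    rcases subsingleton_or_nontrivial R with h0 | h0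
    · exact Or.inr h0
    · refine Or.inl fun h0 => ?_
      have : F.coeff N = 0 := Polynomial.coeff_eq_zero_of_natDegree_lt (by omega)
      rw [Polynomial.coeff_sub, hlead, Polynomial.coeff_C, if_neg (by omega : ¬ N = 0), sub_zero] at this
      exact one_ne_zero this
  let B := AdjoinRoot F
  let Q : Over (Spec (CommRingCat.of R)) := (Spec (CommRingCat.of B)).asOver (Spec (CommRingCat.of R))
  let rt : ∀ {T : Over (Spec (CommRingCat.of R))}, (T ⟶ Q) → Γ(T.left, ⊤) := fun p => ptRing p (AdjoinRoot.root F)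
  have hrt : ∀ {T : Over (Spec (CommRingCat.of R))} (p : T ⟶ Q), P.eval₂ (strR T) (rt p) = strR T b := by
    intro T p
    have := congrArg (ptRing p) (AdjoinRoot.eval₂_root F)
    rw [Polynomial.hom_eval₂, map_zero, ← AdjoinRoot.algebraMap_eq, ptRing_algebraMap, Polynomial.eval₂_sub,
      Polynomial.eval₂_C, sub_eq_zero] at this
    exact this
  have hrt_inj : ∀ {T : Over (Spec (CommRingCat.of R))} {p p' : T ⟶ Q}, rt p = rt p' → p = p' := by
    intro T p p' e
    refine ptRing_injective ((RingHom.cancel_right AdjoinRoot.mk_surjective).1 (Polynomial.ringHom_ext (fun x => ?_) ?_))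
    · show ptRing p (AdjoinRoot.mk F (Polynomial.C x)) = ptRing p' (AdjoinRoot.mk F (Polynomial.C x))
      rw [AdjoinRoot.mk_C, ← AdjoinRoot.algebraMap_eq]
      exact (DFunLike.congr_fun (ptRing_algebraMap p) x).trans (DFunLike.congr_fun (ptRing_algebraMap p') x).symm
    · show ptRing p (AdjoinRoot.mk F Polynomial.X) = ptRing p' (AdjoinRoot.mk F Polynomial.X)
      rw [AdjoinRoot.mk_X]; exact e
  have hrt_ex : ∀ {T : Over (Spec (CommRingCat.of R))} (t : Γ(T.left, ⊤)), P.eval₂ (strR T) t = strR T b →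
      ∃ p : T ⟶ Q, rt p = t := by
    intro T t ht
    obtain ⟨p, hp⟩ := exists_ptRing (B := B) (T := T) (AdjoinRoot.lift (strR T) t (by
      rw [Polynomial.eval₂_sub, Polynomial.eval₂_C, ht, sub_self])) (RingHom.ext fun x => by
      rw [RingHom.comp_apply, AdjoinRoot.algebraMap_eq]; exact AdjoinRoot.lift_of _)
    exact ⟨p, by show ptRing p _ = t; rw [hp, AdjoinRoot.lift_root]⟩
  have hpow : ∀ {T : Over (Spec (CommRingCat.of R))} (p : T ⟶ Q),
      (1 + strR T lam * rt p) ^ N = strR T (1 + lam ^ N * b) := by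
    intro T p
    letI := algΓ T
    have := SekSuwa.aeval_psiPoly h (rt p)
    rw [show Polynomial.aeval (rt p) P = strR T b from hrt p] at this
    rw [map_add, map_one, map_mul, ← sub_eq_iff_eq_add']
    exact this.symm
  have hu : ∀ {T : Over (Spec (CommRingCat.of R))} (p : T ⟶ Q), IsUnit (1 + strR T lam * rt p) := fun {T} p =>
    (isUnit_pow_iff hN.ne').1 (by rw [hpow]; exact hb.map _)
  obtain ⟨q₀, hq₀⟩ := exists_coord (T := Q) (lam := lam) (hu (𝟙 Q))
  have hq : ∀ {T : Over (Spec (CommRingCat.of R))} (p : T ⟶ Q), coord (p ≫ q₀) = rt p := by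
    intro T p
    rw [coord_precomp, hq₀]
    show p.left.appTop (ptRing (𝟙 Q) _) = ptRing p _
    simp only [ptRing, RingHom.comp_apply, Over.id_left, Scheme.Hom.id_appTop]
    rfl
  have hq_inj : ∀ {T : Over (Spec (CommRingCat.of R))} {p p' : T ⟶ Q}, p ≫ q₀ = p' ≫ q₀ → p = p' := fun {T p p'} e =>
    hrt_inj (by rw [← hq, ← hq, e])
  haveI : Mono q₀ := ⟨fun p p' e => hq_inj e⟩
  let G := SekSuwa.GK R lam N h
  let i := SekSuwa.incl R lam N h
  have hkill : ∀ {T : Over (Spec (CommRingCat.of R))} (g : T ⟶ G), (g ≫ i) ≫ SekSuwa.psi R lam N h = 1 := fun g => by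
    rw [Category.assoc, SekSuwa.incl_psi, MonObj.comp_one]
  have hb0 : ∀ {T : Over (Spec (CommRingCat.of R))} (p : T ⟶ Q),
      coord ((p ≫ q₀) ≫ SekSuwa.psi R lam N h) = strR T b := fun p => by rw [coord_psi, hq, hrt]
  obtain ⟨act, hact⟩ : ∃ act : G ⊗ Q ⟶ Q, act ≫ q₀ = (fst G Q ≫ i) * (snd G Q ≫ q₀) := by
    obtain ⟨p, hp⟩ := hrt_ex (T := G ⊗ Q) (coord ((fst G Q ≫ i) * (snd G Q ≫ q₀))) (by
      rw [← coord_psi, MonObj.mul_comp, hkill, _root_.one_mul, hb0])
    exact ⟨p, coord_injective (by rw [hq, hp])⟩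
  have hlift : ∀ {T : Over (Spec (CommRingCat.of R))} (g : T ⟶ G) (p : T ⟶ Q),
      (lift g p ≫ act) ≫ q₀ = (g ≫ i) * (p ≫ q₀) := fun g p => by
    rw [Category.assoc, hact, MonObj.comp_mul, lift_fst_assoc, lift_snd_assoc]
  have h_one : η ▷ Q ≫ act = (λ_ Q).hom := by
    refine AlgGrp.Action.hom_ext_lift₂ fun T c p => hq_inj ?_
    rw [lift_whiskerRight_assoc, hlift, leftUnitor_hom, lift_snd]
    rw [show c = toUnit T from toUnit_unique _ _, ← Hom.one_def, MonObj.one_comp, _root_.one_mul]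
  have h_mul : μ ▷ Q ≫ act = (α_ G G Q).hom ≫ G ◁ act ≫ act := by
    refine AlgGrp.Action.hom_ext_lift₃ fun T g g' p => hq_inj ?_
    rw [lift_whiskerRight_assoc, ← Hom.mul_def, hlift, lift_lift_associator_hom_assoc, lift_whiskerLeft_assoc, hlift,
      hlift, MonObj.mul_comp, _root_.mul_assoc]
  let a : AlgGrp.Action G Q := ⟨act, h_one, h_mul⟩
  -- pseudo torsor
  have hex : ∀ {T : Over (Spec (CommRingCat.of R))} (p p' : T ⟶ Q),
      ∃ g : T ⟶ G, g ≫ i = (p ≫ q₀) * (p' ≫ q₀)⁻¹ := by
    intro T p p'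
    have e : ((p ≫ q₀) * (p' ≫ q₀)⁻¹) ≫ SekSuwa.psi R lam N h = toUnit T ≫ η[SekSuwa.G R (lam ^ N)] := by
      have e1 : (p ≫ q₀) ≫ SekSuwa.psi R lam N h = (p' ≫ q₀) ≫ SekSuwa.psi R lam N h :=
        coord_injective (by rw [hb0, hb0])
      rw [← Hom.one_def, MonObj.mul_comp, GrpObj.inv_comp, e1, mul_inv_cancel]
    exact ⟨(Groth.Agent.S14693.result R lam N h).lift _ _ e, (Groth.Agent.S14693.result R lam N h).lift_fst _ _ e⟩
  have hpseudo : NonAbH1.IsPseudoTorsorSch a := by
    obtain ⟨g, hg⟩ := hex (fst Q Q) (snd Q Q)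
    refine ⟨⟨lift g (snd Q Q), ?_, ?_⟩⟩
    · apply CartesianMonoidalCategory.hom_ext
      · rw [Category.assoc, lift_fst, Category.id_comp]
        refine incl_injective ?_
        rw [Category.assoc, hg, MonObj.comp_mul, GrpObj.comp_inv, lift_fst_assoc, lift_snd_assoc, hact,
          mul_inv_cancel_right]
      · rw [Category.assoc, lift_snd, lift_snd, Category.id_comp]
    · apply CartesianMonoidalCategory.hom_ext
      · rw [Category.assoc, lift_fst, Category.id_comp]
        refine hq_inj ?_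
        show (lift g (snd Q Q) ≫ act) ≫ q₀ = fst Q Q ≫ q₀
        rw [hlift, hg, inv_mul_cancel_right]
      · rw [Category.assoc, lift_snd, lift_snd, Category.id_comp]
  -- local triviality
  haveI : Module.Free R B := hF.free_adjoinRoot
  haveI : Flat Q.hom := by
    show Flat (Spec.map (CommRingCat.ofHom (algebraMap R B)))
    rw [HasRingHomProperty.Spec_iff (P := @Flat)]
    exact RingHom.flat_algebraMap_iff.mpr inferInstance
  haveI : LocallyOfFinitePresentation Q.hom := by
    show LocallyOfFinitePresentation (Spec.map (CommRingCat.ofHom (algebraMap R B)))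
    rw [HasRingHomProperty.Spec_iff (P := @LocallyOfFinitePresentation)]
    exact RingHom.finitePresentation_algebraMap.mpr inferInstance
  haveI : Surjective Q.hom := by
    refine ⟨fun x => ?_⟩
    haveI : Nontrivial R := ⟨⟨0, 1, fun e => x.isPrime.ne_top ((Ideal.eq_top_iff_one _).2 (e ▸ x.asIdeal.zero_mem))⟩⟩
    have hd : F.natDegree ≠ 0 := hFdeg.resolve_right (not_subsingleton R)
    haveI : Nontrivial B := nontrivial_of_ne _ 0
      ((AdjoinRoot.powerBasis' hF).basis.ne_zero ⟨0, by rw [AdjoinRoot.powerBasis'_dim]; omega⟩)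
    haveI : Module.FaithfullyFlat R B := inferInstance
    exact PrimeSpectrum.comap_surjective_of_faithfullyFlat x
  obtain ⟨χ, hχ⟩ := exists_val (T := Q) ((hr.map (strR Q)).mul (hu (𝟙 Q)))
  have hχp : ∀ {T : Over (Spec (CommRingCat.of R))} (p : T ⟶ Q),
      val (p ≫ χ) = strR T r * (1 + strR T lam * rt p) := by
    intro T p
    have e1 : ∀ x, p.left.appTop (strR Q x) = strR T x := fun x => by
      have : p.left.appTop.hom.comp (strR Q) = strR T := by
        rw [strR, strR, ← RingHom.comp_assoc, ← CommRingCat.hom_comp, ← Scheme.Hom.comp_appTop, Over.w p]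
      exact DFunLike.congr_fun this x
    rw [val_precomp, hχ, map_mul, map_add, map_one, map_mul, e1, e1]
    congr 3
  refine ⟨Q, a, χ, ⟨hpseudo, ⟨Presieve.singleton Q.hom, ?_, ?_⟩⟩, fun T g p => ?_, fun T p => ?_⟩
  · rw [Scheme.fppfPrecoverage, Scheme.singleton_mem_precoverage_iff]
    exact ⟨Q.hom.surjective, ⟨inferInstance, inferInstance⟩⟩
  · rintro S' g ⟨⟩
    exact ⟨𝟙 _, Category.id_comp _⟩
  · refine val_injective ?_
    show val ((lift g p ≫ act) ≫ χ) = _
    rw [val_mul, hχp, hχp, ← hq, hlift, ← Category.assoc g i, ← val_alpha, MonObj.mul_comp, val_mul, val_alpha (p ≫ q₀), hq]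
    ring
  · rw [hχp, mul_pow, hpow, ← map_pow, ← map_mul]

end GrothLib.SekG13
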