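import Groth.Prelude.Def_SekSuwa
import Groth.Agent.Lib.NoriFGS13.Transfer
import Groth.Agent.Lib.SekGen13.Basic
import Groth.Agent.Lib.DiagGrp.Points

/-!
# Points of the multiplicative group and of the one-parameter groups as functions
-/

set_option autoImplicit false
set_option backward.isDefEq.respectTransparency false
set_option backward.isDefEq.respectTransparency.types false

universe u

open CategoryTheory CategoryTheory.Limits AlgebraicGeometry MonoidalCategory CartesianMonoidalCategory MonObj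

namespace GrothLib.SekG13

open SekGen13

variable {R : Type u} [CommRing R] {T T' : Over (Spec (CommRingCat.of R))}

/-- The value of a point of the multiplicative group. -/
noncomputable def val (δ : T ⟶ Red.diag R ℤ) : Γ(T.left, ⊤) :=
  ptRing δ (MonoidAlgebra.single (Multiplicative.ofAdd (1 : ℤ)) 1)

theorem val_precomp (h : T' ⟶ T) (δ : T ⟶ Red.diag R ℤ) : val (h ≫ δ) = h.left.appTop (val δ) := by
  simp only [val, ptRing, RingHom.comp_apply, Over.comp_left, Scheme.Hom.comp_appTop, CommRingCat.comp_apply]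

/-- The global functions as an algebra over the base. -/
noncomputable abbrev algΓ (T : Over (Spec (CommRingCat.of R))) : Algebra R Γ(T.left, ⊤) := (strR T).toAlgebra

theorem exists_pt (T : Over (Spec (CommRingCat.of R))) :
    ∃ e : Γ(T.left, ⊤)ˣ →* (T ⟶ Red.diag R ℤ), Function.Bijective e ∧ ∀ u, val (e u) = u := by
  letI := algΓ T
  let Y : Over (Spec (CommRingCat.of R)) :=
    (Spec (CommRingCat.of Γ(T.left, ⊤))).asOver (Spec (CommRingCat.of R))
  obtain ⟨t, ht⟩ : ∃ t : T ⟶ Y, ptRing t = RingHom.id Γ(T.left, ⊤) :=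
    exists_ptRing (T := T) (RingHom.id _) (RingHom.id_comp _)
  let z : Γ(T.left, ⊤)ˣ →* (Multiplicative ℤ →* Γ(T.left, ⊤)) :=
    { toFun := fun v => (Units.coeHom _).comp (zpowersHom _ v)
      map_one' := by ext; simp
      map_mul' := fun a b => by ext; simp }
  let pre : (Y ⟶ Red.diag R ℤ) →* (T ⟶ Red.diag R ℤ) :=
    { toFun := fun g => t ≫ g
      map_one' := MonObj.comp_one _
      map_mul' := fun a b => MonObj.comp_mul _ _ _ }
  let e : Γ(T.left, ⊤)ˣ →* (T ⟶ Red.diag R ℤ) :=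
    (pre.comp (DiagGrp.specPoint R ℤ Γ(T.left, ⊤)).toMonoidHom).comp z
  have he : ∀ v, ptRing (e v) = (MonoidAlgebra.lift R Γ(T.left, ⊤) (Multiplicative ℤ) (z v)).toRingHom := by
    intro v
    refine RingHom.ext fun a => ?_
    show ptRing (t ≫ DiagGrp.specPoint R ℤ Γ(T.left, ⊤) (z v)) a = _
    simp only [ptRing, RingHom.comp_apply, Over.comp_left, DiagGrp.specPoint_left, Scheme.Hom.comp_appTop,
      CommRingCat.comp_apply]
    refine Eq.trans (congrArg t.left.appTop ?_) (DFunLike.congr_fun ht _)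
    exact (DFunLike.congr_fun (congrArg CommRingCat.Hom.hom
      (Scheme.ΓSpecIso_inv_naturality (CommRingCat.ofHom
        (MonoidAlgebra.lift R Γ(T.left, ⊤) (Multiplicative ℤ) (z v)).toRingHom))) a).symm
  have hv : ∀ v, val (e v) = v := by
    intro v
    rw [val, he]
    show MonoidAlgebra.lift R Γ(T.left, ⊤) (Multiplicative ℤ) (z v)
      (MonoidAlgebra.of R (Multiplicative ℤ) (Multiplicative.ofAdd (1 : ℤ))) = _
    rw [MonoidAlgebra.lift_of]
    simp [z]
  refine ⟨e, ⟨fun a b h => Units.ext (by rw [← hv a, h, hv b]), fun δ => ?_⟩, hv⟩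
  let φ : MonoidAlgebra R (Multiplicative ℤ) →ₐ[R] Γ(T.left, ⊤) :=
    { ptRing δ with commutes' := fun r => DFunLike.congr_fun (ptRing_algebraMap δ) r }
  let χ : Multiplicative ℤ →* Γ(T.left, ⊤) := (MonoidAlgebra.lift R Γ(T.left, ⊤) (Multiplicative ℤ)).symm φ
  refine ⟨χ.toHomUnits (Multiplicative.ofAdd 1), ptRing_injective ?_⟩
  rw [he]
  have hz : z (χ.toHomUnits (Multiplicative.ofAdd 1)) = χ := by
    refine MonoidHom.ext_mint ?_
    simp [z]
  rw [hz]
  show ((MonoidAlgebra.lift R Γ(T.left, ⊤) (Multiplicative ℤ))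
    ((MonoidAlgebra.lift R Γ(T.left, ⊤) (Multiplicative ℤ)).symm φ)).toRingHom = _
  rw [Equiv.apply_symm_apply]

theorem isUnit_val (δ : T ⟶ Red.diag R ℤ) : IsUnit (val δ) := by
  obtain ⟨e, he, hv⟩ := exists_pt T
  obtain ⟨v, rfl⟩ := he.2 δ
  rw [hv]; exact v.isUnit

theorem val_injective {δ δ' : T ⟶ Red.diag R ℤ} (h : val δ = val δ') : δ = δ' := by
  obtain ⟨e, he, hv⟩ := exists_pt T
  obtain ⟨a, rfl⟩ := he.2 δ
  obtain ⟨b, rfl⟩ := he.2 δ'
  rw [hv, hv] at h
  rw [Units.ext h]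

theorem exists_val {v : Γ(T.left, ⊤)} (hu : IsUnit v) : ∃ δ : T ⟶ Red.diag R ℤ, val δ = v := by
  obtain ⟨e, -, hv⟩ := exists_pt T
  exact ⟨e hu.unit, by rw [hv]; rfl⟩

theorem val_mul (δ δ' : T ⟶ Red.diag R ℤ) : val (δ * δ') = val δ * val δ' := by
  obtain ⟨e, he, hv⟩ := exists_pt T
  obtain ⟨a, rfl⟩ := he.2 δ
  obtain ⟨b, rfl⟩ := he.2 δ'
  rw [← map_mul, hv, hv, hv, Units.val_mul]

theorem val_one : val (1 : T ⟶ Red.diag R ℤ) = 1 := by
  obtain ⟨e, -, hv⟩ := exists_pt T
  rw [← map_one e, hv, Units.val_one]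

variable {lam : R}

/-- The coordinate of a point of the one-parameter group. -/
noncomputable def coord (w : T ⟶ SekSuwa.G R lam) : Γ(T.left, ⊤) := ptRing w SekSuwa.A.t

theorem val_alpha (w : T ⟶ SekSuwa.G R lam) :
    val (w ≫ SekSuwa.alpha R lam) = 1 + strR T lam * coord w := by
  rw [val, show SekSuwa.alpha R lam = SekSuwa.specHom (SekSuwa.alphaHom R lam) from rfl, ptRing_specHom,
    RingHom.comp_apply]
  show ptRing w (SekSuwa.alphaHom R lam (MonoidAlgebra.single (Multiplicative.ofAdd (1 : ℤ)) 1)) = _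
  rw [SekSuwa.alphaHom_single_one, SekSuwa.A.u, map_add, map_one, Algebra.smul_def, map_mul, coord]
  congr 2
  exact DFunLike.congr_fun (ptRing_algebraMap w) lam

theorem exists_coord {b : Γ(T.left, ⊤)} (hb : IsUnit (1 + strR T lam * b)) :
    ∃ w : T ⟶ SekSuwa.G R lam, coord w = b := by
  letI := algΓ T
  have hc : (1 + lam • b) * ((hb.unit⁻¹ : Γ(T.left, ⊤)ˣ) : Γ(T.left, ⊤)) = 1 := by
    rw [Algebra.smul_def]
    exact hb.mul_val_inv
  let φ : SekSuwa.A R lam →ₐ[R] Γ(T.left, ⊤) := SekSuwa.A.lift R lam b _ hc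
  obtain ⟨w, hw⟩ := exists_ptRing (T := T) φ.toRingHom (RingHom.ext φ.commutes)
  exact ⟨w, by rw [coord, hw]; exact SekSuwa.A.lift_t _ _ _⟩

theorem coord_injective {w w' : T ⟶ SekSuwa.G R lam} (h : coord w = coord w') : w = w' := by
  letI := algΓ T
  refine ptRing_injective ?_
  let φ : SekSuwa.A R lam →ₐ[R] Γ(T.left, ⊤) :=
    { ptRing w with commutes' := fun r => DFunLike.congr_fun (ptRing_algebraMap w) r }
  let φ' : SekSuwa.A R lam →ₐ[R] Γ(T.left, ⊤) :=
    { ptRing w' with commutes' := fun r => DFunLike.congr_fun (ptRing_algebraMap w') r }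
  have hinv : φ SekSuwa.A.inv = φ' SekSuwa.A.inv := by
    have e1 := congrArg φ (SekSuwa.A.inv_mul_u (R := R) (lam := lam))
    have e2 := congrArg φ' (SekSuwa.A.inv_mul_u (R := R) (lam := lam))
    have hu : φ SekSuwa.A.u = φ' SekSuwa.A.u := by
      simp only [SekSuwa.A.u, map_add, map_one, map_smul]
      rw [show φ SekSuwa.A.t = φ' SekSuwa.A.t from h]
    rw [map_mul, map_one] at e1 e2
    refine (IsUnit.of_mul_eq_one_right _ e2).mul_right_cancel ?_
    rw [e2, ← hu, e1]
  exact congrArg AlgHom.toRingHom (SekSuwa.A.algHom_ext (f := φ) (g := φ') h hinv)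

end GrothLib.SekG13
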